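import Cfsg.Agent.Lib.GW.Sig.Abelian.Basic
import Cfsg.Agent.Lib.GW.Sig.Index
import Cfsg.Agent.Lib.LocalEven.Generation

/-!
# The end of both cases

`Emb` consists of an odd `r'`-group `W`, a subgroup `N` normalising it which controls the fusion of
its `r`-subgroups, and an element `a` of `N ∩ O(C(t))` whose centraliser lies in `M = W N`.  Then
`M` contains `C(t)`, and if all involutions of `N ∩ C(t)` fix such elements, it has one class of
involutions, which is absurd.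
-/

set_option autoImplicit false

namespace CfsgLib.GW.Sig

open Subgroup Cfsg
open CfsgLib.Signalizer (involution_sq involution_inv involution_ne_one orderOf_conj)

universe u

variable {G : Type u} [Group G] [Finite G] {r : ℕ} [Fact r.Prime]

/-- `N` controls the fusion of its `r`-subgroups. -/
def Controls (r : ℕ) (N : Subgroup G) : Prop :=
  ∀ Q : Subgroup G, IsPGroup r Q → Q ≤ N → ∀ x : G, (∀ q ∈ Q, x * q * x⁻¹ ∈ N) →
    ∃ y ∈ N, ∀ q ∈ Q, x * q * x⁻¹ = y * q * y⁻¹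

/-- An overgroup of the subgroup `X` of a `Ctx` controls fusion. -/
theorem controls_of_ctx (S : Std G r) (c : Ctx G r) {N : Subgroup G} (hXN : c.X ≤ N) :
    Controls r N := by
  intro Q hQ hQN x hx
  have hRN : (c.R : Subgroup G) ≤ N := c.R_le.trans hXN
  have hmove : ∀ Q' : Subgroup G, IsPGroup r Q' → Q' ≤ N →
      ∃ n ∈ N, ∀ q ∈ Q', n * q * n⁻¹ ∈ (c.R : Subgroup G) := by
    intro Q' hQ' hQ'N
    obtain ⟨n, hn⟩ := CfsgLib.TwoGroups.exists_conj_le_sylow (c.R.subtype hRN)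
      (hQ'.comap_of_injective N.subtype N.subtype_injective : IsPGroup r (Q'.subgroupOf N))
    refine ⟨n, n.2, fun q hq => ?_⟩
    have h1 := hn (CfsgLib.TwoGroups.conj_mem_map_conj
      (show (⟨q, hQ'N hq⟩ : N) ∈ Q'.subgroupOf N from hq))
    rwa [Sylow.coe_subtype, mem_subgroupOf] at h1
  obtain ⟨n₁, hn₁, h1⟩ := hmove Q hQ hQN
  obtain ⟨n₂, hn₂, h2⟩ := hmove (Q.map (MulAut.conj x).toMonoidHom) (hQ.map _)
    (by rintro _ ⟨q, hq, rfl⟩; exact hx q hq)
  obtain ⟨y, hy, hya⟩ := c.control S.odd S.noQd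
    (A := (fun q => n₁ * q * n₁⁻¹) '' (Q : Set G)) (x := n₂ * x * n₁⁻¹)
    (by rintro _ ⟨q, hq, rfl⟩; exact h1 q hq)
    (by
      rintro _ ⟨q, hq, rfl⟩
      rw [show n₂ * x * n₁⁻¹ * (n₁ * q * n₁⁻¹) * (n₂ * x * n₁⁻¹)⁻¹ = n₂ * (x * q * x⁻¹) * n₂⁻¹ by
        group]
      exact h2 _ ⟨q, hq, rfl⟩)
  refine ⟨n₂⁻¹ * y * n₁, mul_mem (mul_mem (inv_mem hn₂) (hXN hy)) hn₁, fun q hq => ?_⟩
  have e := hya _ ⟨q, hq, rfl⟩
  rw [show n₂ * x * n₁⁻¹ * (n₁ * q * n₁⁻¹) * (n₂ * x * n₁⁻¹)⁻¹ = n₂ * (x * q * x⁻¹) * n₂⁻¹ by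
    group] at e
  calc x * q * x⁻¹ = n₂⁻¹ * (n₂ * (x * q * x⁻¹) * n₂⁻¹) * n₂ := by group
    _ = n₂⁻¹ * (y * (n₁ * q * n₁⁻¹) * y⁻¹) * n₂ := by rw [e]
    _ = n₂⁻¹ * y * n₁ * q * (n₂⁻¹ * y * n₁)⁻¹ := by group

/-- An `r'`-group with odd fixed points under a non-cyclic elementary group is odd. -/
theorem odd_of_generated (hr : r ≠ 2) {A W : Subgroup G} (hAc : ∀ a ∈ A, ∀ b ∈ A, a * b = b * a)
    (hApow : ∀ a ∈ A, a ^ r = 1) (hA2 : r ^ 2 ≤ Nat.card A) (hAW : A ≤ normalizer (W : Set G))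
    (hW : ¬ r ∣ Nat.card W)
    (h : ∀ a ∈ A, a ≠ 1 → Odd (Nat.card (W ⊓ centralizer ({a} : Set G) : Subgroup G))) :
    Odd (Nat.card W) := by
  haveI : IsMulCommutative A := ⟨⟨fun x y => Subtype.ext (hAc _ x.2 _ y.2)⟩⟩
  have hAp : IsPGroup r A := fun a => ⟨1, Subtype.ext (by simpa using hApow _ a.2)⟩
  have hcop : (Nat.card A).Coprime (Nat.card W) := by
    obtain ⟨k, hk⟩ := IsPGroup.iff_card.1 hAp
    exact hk ▸ ((Fact.out : r.Prime).coprime_iff_not_dvd.2 hW).pow_left k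
  haveI : Fact (Nat.Prime 2) := ⟨Nat.prime_two⟩
  obtain ⟨P, hP⟩ := CfsgLib.Core.exists_invariant_sylow hAW hcop
    (Or.inl (CfsgLib.OddLocal.FTFinal.odd_order_solvable (Setting.odd_of_pGroup hr hAp))) 2
  set T := (P : Subgroup W).map W.subtype with hT
  have hTW : T ≤ W := map_subtype_le _
  have hT2 : IsPGroup 2 T := P.2.map _
  have hT1 : T ≤ ⊥ := CfsgLib.LocalEven.le_of_centralizers_le (p := r) hApow hA2 hP
    (fun h' => hW (h'.trans (card_dvd_of_le hTW))) fun a ha ha1 x hx => mem_bot.2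
      ((twoElt_of_mem hT2 hx.1).eq_one_of_mem (h a ha ha1) ⟨hTW hx.1, hx.2⟩)
  by_contra hev
  have h2 : 2 ∣ Nat.card W := even_iff_two_dvd.1 (Nat.not_odd_iff_even.1 hev)
  have hcard : Nat.card T = 1 := by rw [le_bot_iff.1 hT1, card_bot]
  rw [hT, card_map_of_injective W.subtype_injective, P.card_eq_multiplicity] at hcard
  have := Nat.prime_two.factorization_pos_of_dvd Nat.card_pos.ne' h2
  rw [Nat.pow_eq_one] at hcard
  omega

/-- The data for the end of the argument. -/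
structure Emb (G : Type u) [Group G] (r : ℕ) where
  N : Subgroup G
  W : Subgroup G
  B : Subgroup G
  t : G
  a : G
  ht : orderOf t = 2
  tN : t ∈ N
  norm : N ≤ normalizer (W : Set G)
  W_odd : Odd (Nat.card W)
  W_coprime : ¬ r ∣ Nat.card W
  ctl : Controls r N
  B_le : B ≤ N
  B_t : B ≤ centralizer ({t} : Set G)
  B_p : IsPGroup r B
  B_comm : ∀ x ∈ B, ∀ y ∈ B, x * y = y * x
  B_norm : N ⊓ centralizer ({t} : Set G) ≤ normalizer (B : Set G)
  a_mem : a ∈ B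
  a_cent : centralizer ({a} : Set G) ≤ W ⊔ N

namespace Emb

variable (e : Emb G r)

/-- The subgroup `W N`. -/
def M : Subgroup G := e.W ⊔ e.N

theorem N_le_M : e.N ≤ e.M := le_sup_right

/-- A conjugation between `r`-subgroups of `N` containing `a` lies in `M`. -/
theorem mem_M_of_conj {Q : Subgroup G} (hQ : IsPGroup r Q) (hQN : Q ≤ e.N) (haQ : e.a ∈ Q) {x : G}
    (hx : ∀ q ∈ Q, x * q * x⁻¹ ∈ e.N) : x ∈ e.M := by
  obtain ⟨y, hy, hxy⟩ := e.ctl Q hQ hQN x hx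
  have h1 : y⁻¹ * x ∈ centralizer ({e.a} : Set G) := by
    refine mem_centralizer_of_commute (commute_of_conj_eq ?_)
    rw [show y⁻¹ * x * e.a * (y⁻¹ * x)⁻¹ = y⁻¹ * (x * e.a * x⁻¹) * y by group, hxy e.a haQ]
    group
  simpa using mul_mem (e.N_le_M hy) (e.a_cent h1)

/-- The elements of `M` centralising `t` are products of such elements of `N` and `W`. -/
theorem inf_centralizer_le :
    e.M ⊓ centralizer ({e.t} : Set G) ≤
      (e.N ⊓ centralizer ({e.t} : Set G)) ⊔ (e.W ⊓ centralizer ({e.t} : Set G)) := by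
  intro x hx
  obtain ⟨n, hn, w, hw, rfl⟩ := (CfsgLib.Core.mem_sup_iff_mul e.norm).1
    (by rw [sup_comm]; exact hx.1 : x ∈ e.N ⊔ e.W)
  set A := zpowers e.t with hA
  set K := e.W ⊓ e.N with hK
  have htK : e.t ∈ normalizer (K : Set G) :=
    CfsgLib.Transfer.normalizer_le_normalizer_inf
      (Subgroup.mem_inf.2 ⟨e.norm e.tN, le_normalizer e.tN⟩)
  have hcop : (Nat.card A).Coprime (Nat.card K) := by
    rw [hA, Nat.card_zpowers, e.ht]
    exact Nat.coprime_two_left.2 (e.W_odd.of_dvd_nat (card_dvd_of_le inf_le_left))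
  have htw : e.t * w * e.t⁻¹ ∈ e.W := (mem_normalizer_iff.1 (e.norm e.tN) w).1 hw
  have hkey : n⁻¹ * (e.t * n * e.t⁻¹) ∈ K := by
    refine Subgroup.mem_inf.2 ⟨?_, mul_mem (inv_mem hn) (mul_mem (mul_mem e.tN hn) (inv_mem e.tN))⟩
    have h1 : e.t * n * e.t⁻¹ * (e.t * w * e.t⁻¹) = n * w := by
      rw [conj_mul]; exact conj_eq_of_commute (commute_of_mem_centralizer hx.2).symm
    rw [eq_mul_inv_of_mul_eq h1,
      show n⁻¹ * (n * w * (e.t * w * e.t⁻¹)⁻¹) = w * (e.t * w * e.t⁻¹)⁻¹ by group]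
    exact mul_mem hw (inv_mem htw)
  obtain ⟨k, hk, hnk⟩ := CfsgLib.Core.exists_centralizing_in_coset (zpowers_le.2 htK) hcop
    (Or.inl (show Group.IsSolvable A from inferInstance)) (k := n) (by
      intro b hb
      obtain ⟨i, rfl⟩ := hb
      show n⁻¹ * (e.t ^ i * n * (e.t ^ i)⁻¹) ∈ K
      have ht2 : e.t ^ (2 : ℤ) = 1 := by
        rw [show (2 : ℤ) = ((2 : ℕ) : ℤ) from rfl, zpow_natCast, pow_two, involution_sq e.ht]
      rcases Int.even_or_odd i with ⟨j, rfl⟩ | ⟨j, rfl⟩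
      · rw [← two_mul, zpow_mul, ht2, one_zpow, one_mul, inv_one, mul_one, inv_mul_cancel]
        exact one_mem K
      · rw [zpow_add, zpow_one, zpow_mul, ht2, one_zpow, one_mul]
        exact hkey)
  have hk' := Subgroup.mem_inf.1 hk
  have htn : Commute (n * k) e.t := (mem_centralizer_iff.1 hnk e.t (mem_zpowers e.t)).symm
  rw [show n * w = n * k * (k⁻¹ * w) by group]
  refine mul_mem (mem_sup_left (Subgroup.mem_inf.2 ⟨mul_mem hn hk'.2, mem_centralizer_of_commute htn⟩))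
    (mem_sup_right (Subgroup.mem_inf.2 ⟨mul_mem (inv_mem hk'.1) hw, mem_centralizer_of_commute ?_⟩))
  have h2 := htn.inv_left.mul_left (commute_of_mem_centralizer hx.2)
  rwa [show (n * k)⁻¹ * (n * w) = k⁻¹ * w by group] at h2

theorem card_dvd_of_le_M {Q : Subgroup G} (hQ : Q ≤ e.M) (hQt : Q ≤ centralizer ({e.t} : Set G)) :
    Nat.card Q ∣ Nat.card (e.N ⊓ centralizer ({e.t} : Set G) : Subgroup G) *
      Nat.card (e.W ⊓ centralizer ({e.t} : Set G) : Subgroup G) :=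
  (card_dvd_of_le ((le_inf hQ hQt).trans e.inf_centralizer_le)).trans
    (CfsgLib.Core.card_sup_dvd _ _
      ((le_inf (inf_le_left.trans e.norm) (inf_le_right.trans le_normalizer)).trans
        CfsgLib.Transfer.normalizer_le_normalizer_inf))

/-- A Sylow `r`-subgroup of `O(C(t))` in `N`. -/
theorem exists_sylow_U (S : Std G r) :
    ∃ P : Sylow r (U e.t), (P : Subgroup (U e.t)).map (U e.t).subtype ≤ e.N ∧
      e.B ≤ (P : Subgroup (U e.t)).map (U e.t).subtype := by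
  classical
  set Nc := e.N ⊓ centralizer ({e.t} : Set G) with hNc
  obtain ⟨R₀, hR₀⟩ := exists_sylow_ge e.B_p (le_inf e.B_le e.B_t : e.B ≤ Nc)
  set P₀ := (R₀ : Subgroup Nc).map Nc.subtype with hP₀
  have hP₀p : IsPGroup r P₀ := R₀.2.map _
  have hP₀N : P₀ ≤ Nc := map_subtype_le _
  have hP₀U : P₀ ≤ U e.t := fun x hx => (S.base.mem_U e.ht).2
    ⟨commute_of_mem_centralizer (hP₀N hx).2,
      odd_orderOf_of_mem (Setting.odd_of_pGroup S.odd hP₀p) hx⟩
  obtain ⟨P, hP⟩ := exists_sylow_ge hP₀p hP₀U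
  set P' := (P : Subgroup (U e.t)).map (U e.t).subtype with hP'
  have hP'p : IsPGroup r P' := P.2.map _
  have heq : P₀ = P' := by
    by_contra hne
    have hlt := CfsgLib.Transfer.lt_inf_normalizer hP'p (lt_of_le_of_ne hP hne)
    set P₃ := P' ⊓ normalizer (P₀ : Set G) with hP₃
    have hP₃t : P₃ ≤ centralizer ({e.t} : Set G) :=
      inf_le_left.trans ((map_subtype_le _).trans (U_le e.t))
    have hP₃M : P₃ ≤ e.M := fun x hx => e.mem_M_of_conj hP₀p (hP₀N.trans inf_le_left)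
      (hR₀ e.a_mem) fun q hq => (hP₀N ((mem_normalizer_iff.1 hx.2 q).1 hq)).1
    have hdvd := e.card_dvd_of_le_M hP₃M hP₃t
    obtain ⟨k, hk⟩ := IsPGroup.iff_card.1 (hP'p.to_le (inf_le_left : P₃ ≤ P'))
    rw [← hNc, hk] at hdvd
    have hW : (r ^ k).Coprime (Nat.card (e.W ⊓ centralizer ({e.t} : Set G) : Subgroup G)) :=
      ((Fact.out : r.Prime).coprime_iff_not_dvd.2 fun h =>
        e.W_coprime (h.trans (card_dvd_of_le inf_le_left))).pow_left k
    have h1 : r ^ k ∣ Nat.card Nc := hW.dvd_of_dvd_mul_right hdvd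
    have h2 : k ≤ (Nat.card Nc).factorization r :=
      ((Fact.out : r.Prime).pow_dvd_iff_le_factorization Nat.card_pos.ne').1 h1
    have h3 := (CfsgLib.Transfer.card_lt_of_lt hlt)
    rw [hk, hP₀, card_map_of_injective Nc.subtype_injective, R₀.card_eq_multiplicity,
      Nat.pow_lt_pow_iff_right (Fact.out : r.Prime).one_lt] at h3
    exact absurd h3 (not_lt.2 h2)
  exact ⟨P, heq.ge.trans (hP₀N.trans inf_le_left), hR₀.trans heq.le⟩

/-- `O(C(t))` lies in `M`. -/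
theorem U_le_M (S : Std G r) (hK : thetaOf r (U e.t) ≤ e.M) : U e.t ≤ e.M := by
  obtain ⟨P, hPN, hBP⟩ := e.exists_sylow_U S
  set P' := (P : Subgroup (U e.t)).map (U e.t).subtype with hP'
  have hP'p : IsPGroup r P' := P.2.map _
  have hHc : Constrained r (U e.t) := fun x hx hx2 => involution_ne_one hx2
    ((twoElt_of_involution hx2).eq_one_of_mem (S.base.odd_U e.ht) hx.1)
  obtain ⟨Q, hQ⟩ := exists_coreR S.odd S.noQd hHc P
  have hBQ : e.B ≤ Q := hQ.quad e.B hBP e.B_comm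
    ((le_inf hPN ((map_subtype_le _).trans (U_le e.t))).trans e.B_norm)
  exact hQ.factor.trans (sup_le hK fun x hx => e.mem_M_of_conj (hP'p.to_le hQ.le) (hQ.le.trans hPN)
    (hBQ e.a_mem) fun q hq => hPN (hQ.le ((mem_normalizer_iff.1 hx.2 q).1 hq)))

/-- The centraliser of `t` lies in `M`. -/
theorem centralizer_t_le_M (S : Std G r) (hK : thetaOf r (U e.t) ≤ e.M) :
    centralizer ({e.t} : Set G) ≤ e.M := by
  obtain ⟨P, hPN, hBP⟩ := e.exists_sylow_U S
  set P' := (P : Subgroup (U e.t)).map (U e.t).subtype with hP'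
  intro x hx
  set Q := P'.map (MulAut.conj x).toMonoidHom with hQ
  have hQU : Q ≤ U e.t := by
    rintro _ ⟨p, hp, rfl⟩
    exact (mem_normalizer_iff.1 (Setting.le_normalizer_U e.t hx) p).1 (map_subtype_le _ hp)
  obtain ⟨k, hk, hkQ⟩ := CfsgLib.Core.exists_conj_of_card_eq P hQU
    (by rw [hQ, CfsgLib.Transfer.card_map_conj])
  have h1 : k⁻¹ * x ∈ e.M := by
    refine e.mem_M_of_conj (P.2.map _) hPN (hBP e.a_mem) fun q hq => hPN ?_
    have h2 : x * q * x⁻¹ ∈ Q := CfsgLib.Transfer.conj_mem_map_conj hq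
    rw [← hkQ, Subgroup.mem_pointwise_smul_iff_inv_smul_mem, ← map_inv, MulAut.smul_def,
      MulAut.conj_apply] at h2
    rw [show k⁻¹ * x * q * (k⁻¹ * x)⁻¹ = k⁻¹ * (x * q * x⁻¹) * k⁻¹⁻¹ by group]
    exact h2
  simpa using mul_mem (e.U_le_M S hK hk) h1

/-- An involution centralising an `r`-element of `N` with centraliser in `M` is conjugate to `t`
in `M`. -/
theorem exists_conj_t (S : Std G r) {i h : G} (hi : orderOf i = 2) (hh : h ∈ e.N)
    (hhp : IsPGroup r (zpowers h)) (hhi : Commute i h)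
    (hhc : centralizer ({h} : Set G) ≤ e.M) : ∃ m ∈ e.M, m * e.t * m⁻¹ = i := by
  obtain ⟨x, hx⟩ := isConj_iff.1 (S.base.one_class e.t i e.ht hi)
  obtain ⟨P, hPN, -⟩ := e.exists_sylow_U S
  set h' := x⁻¹ * h * x with hh'
  have hh'U : h' ∈ U e.t := by
    refine (S.base.mem_U e.ht).2 ⟨?_, ?_⟩
    · have h1 := hhi.symm.map (MulAut.conj x⁻¹).toMonoidHom
      simp only [MulEquiv.coe_toMonoidHom, MulAut.conj_apply, inv_inv] at h1
      rwa [show x⁻¹ * i * x = e.t by rw [← hx]; group] at h1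
    · rw [hh', show x⁻¹ * h * x = x⁻¹ * h * x⁻¹⁻¹ by group, orderOf_conj]
      exact odd_orderOf_of_mem (Setting.odd_of_pGroup S.odd hhp) (mem_zpowers h)
  have hh'p : IsPGroup r (zpowers h') := by
    have : (zpowers h).map (MulAut.conj x⁻¹).toMonoidHom = zpowers h' := by
      rw [MonoidHom.map_zpowers]; congr 1; simp [hh', MulAut.conj_apply]
    rw [← this]
    exact hhp.map _
  obtain ⟨c, hc⟩ := CfsgLib.TwoGroups.exists_conj_le_sylow P
    (hh'p.comap_of_injective (U e.t).subtype (U e.t).subtype_injective :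
      IsPGroup r ((zpowers h').subgroupOf (U e.t)))
  set x₂ := x * (c : G)⁻¹ with hx₂
  set h'' := x₂⁻¹ * h * x₂ with hh''
  have hP'' : h'' ∈ (P : Subgroup (U e.t)).map (U e.t).subtype := by
    refine ⟨c * ⟨h', hh'U⟩ * c⁻¹,
      hc (CfsgLib.TwoGroups.conj_mem_map_conj (mem_zpowers h' : h' ∈ zpowers h')), ?_⟩
    show (c : G) * h' * (c : G)⁻¹ = h''
    rw [hh'', hx₂, hh']; group
  have hct : Commute (c : G) e.t := ((S.base.mem_U e.ht).1 c.2).1
  have hx₂t : x₂ * e.t * x₂⁻¹ = i := by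
    rw [hx₂, show x * (c : G)⁻¹ * e.t * (x * (c : G)⁻¹)⁻¹ =
      x * ((c : G)⁻¹ * e.t * (c : G)) * x⁻¹ by group, hct.inv_left.eq, inv_mul_cancel_right, hx]
  obtain ⟨y, hy, hxy⟩ := e.ctl (zpowers h'') ((P.2.map _).to_le (zpowers_le.2 hP''))
    (zpowers_le.2 (hPN hP'')) x₂ (by
      intro q hq
      obtain ⟨j, rfl⟩ := hq
      rw [← conj_zpow, hh'', show x₂ * (x₂⁻¹ * h * x₂) * x₂⁻¹ = h by group]
      exact zpow_mem hh j)
  have h1 : x₂ * y⁻¹ ∈ centralizer ({h} : Set G) := by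
    refine mem_centralizer_of_commute (commute_of_conj_eq ?_)
    have e' := hxy h'' (mem_zpowers _)
    rw [hh'', show x₂ * (x₂⁻¹ * h * x₂) * x₂⁻¹ = h by group] at e'
    calc x₂ * y⁻¹ * h * (x₂ * y⁻¹)⁻¹
        = x₂ * y⁻¹ * (y * (x₂⁻¹ * h * x₂) * y⁻¹) * (x₂ * y⁻¹)⁻¹ := by rw [← e']
      _ = h := by group
  exact ⟨x₂, by simpa using mul_mem (hhc h1) (e.N_le_M hy), hx₂t⟩

/-- The data are contradictory. -/
theorem false_of (S : Std G r) (hK : thetaOf r (U e.t) ≤ e.M) (hM : e.M ≠ ⊤)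
    (hr3 : r ^ 3 ∣ Nat.card G)
    (hfix : ∀ s : G, orderOf s = 2 → s ∈ e.N → Commute s e.t → ∃ h ∈ e.N,
      IsPGroup r (zpowers h) ∧ Commute s h ∧ centralizer ({h} : Set G) ≤ e.M) : False := by
  classical
  haveI := S.simple
  haveI : Fact (Nat.Prime 2) := ⟨Nat.prime_two⟩
  have hCM := e.centralizer_t_le_M S hK
  set Nc := e.N ⊓ centralizer ({e.t} : Set G) with hNc
  -- a Sylow 2-subgroup in `N ⊓ C(t)`
  obtain ⟨S₀⟩ : Nonempty (Sylow 2 Nc) := inferInstance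
  have hdvd : 2 ^ (Nat.card G).factorization 2 ∣ Nat.card Nc := by
    have h1 := (S.base.two_part_centralizer e.ht).trans (e.card_dvd_of_le_M hCM le_rfl)
    refine Nat.Coprime.dvd_of_dvd_mul_right ?_ h1
    exact (Nat.coprime_two_left.2 (e.W_odd.of_dvd_nat (card_dvd_of_le inf_le_left))).pow_left _
  have hS₀c : Nat.card ((S₀ : Subgroup Nc).map Nc.subtype) = 2 ^ (Nat.card G).factorization 2 := by
    rw [card_map_of_injective Nc.subtype_injective, S₀.card_eq_multiplicity]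
    refine congrArg (2 ^ ·) (le_antisymm ?_ ?_)
    · exact (Nat.factorization_le_iff_dvd Nat.card_pos.ne' Nat.card_pos.ne').2
        (card_subgroup_dvd_card Nc) 2
    · exact (Nat.prime_two.pow_dvd_iff_le_factorization Nat.card_pos.ne').1 hdvd
  set T := Sylow.ofCard _ hS₀c with hT
  have hTN : (T : Subgroup G) ≤ Nc := by
    rw [hT, Sylow.coe_ofCard]; exact map_subtype_le _
  have hTM : (T : Subgroup G) ≤ e.M := hTN.trans (inf_le_left.trans e.N_le_M)
  have hone : ∀ i : G, orderOf i = 2 → i ∈ e.M → ∃ m ∈ e.M, m * e.t * m⁻¹ = i := by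
    intro i hi hiM
    obtain ⟨m, hm⟩ := CfsgLib.TwoGroups.exists_conj_le_sylow (T.subtype hTM)
      ((IsPGroup.of_card (n := 1) (by rw [Nat.card_zpowers, hi, pow_one]) : IsPGroup 2 (zpowers i)
        ).comap_of_injective e.M.subtype e.M.subtype_injective :
          IsPGroup 2 ((zpowers i).subgroupOf e.M))
    have hs := hm (CfsgLib.TwoGroups.conj_mem_map_conj
      (show (⟨i, hiM⟩ : e.M) ∈ (zpowers i).subgroupOf e.M from mem_zpowers i))
    rw [Sylow.coe_subtype, mem_subgroupOf] at hs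
    set s := (m : G) * i * (m : G)⁻¹ with hs'
    have hso : orderOf s = 2 := by rw [hs', orderOf_conj]; exact hi
    have hsN : s ∈ Nc := hTN hs
    obtain ⟨h, hh, hhp, hsh, hhc⟩ := hfix s hso hsN.1 (commute_of_mem_centralizer hsN.2)
    obtain ⟨k, hk, hks⟩ := e.exists_conj_t S hso hh hhp hsh hhc
    refine ⟨(m : G)⁻¹ * k, mul_mem (inv_mem m.2) hk, ?_⟩
    rw [show (m : G)⁻¹ * k * e.t * ((m : G)⁻¹ * k)⁻¹ = (m : G)⁻¹ * (k * e.t * k⁻¹) * (m : G) by group,
      hks, hs']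
    group
  refine false_of_embedded S.base S.odd hr3 e.M hM T hTM ?_ ?_
  · intro a b ha hb haM hbM
    obtain ⟨m, hm, ea⟩ := hone a ha haM
    obtain ⟨m', hm', eb⟩ := hone b hb hbM
    refine ⟨m' * m⁻¹, mul_mem hm' (inv_mem hm), ?_⟩
    rw [← ea, ← eb]; group
  · intro a ha haM x hx
    obtain ⟨m, hm, ea⟩ := hone a ha haM
    have h1 : m⁻¹ * x * m ∈ centralizer ({e.t} : Set G) := mem_centralizer_of_commute (by
      have h2 := (commute_of_mem_centralizer hx).map (MulAut.conj m⁻¹).toMonoidHom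
      simp only [MulEquiv.coe_toMonoidHom, MulAut.conj_apply, inv_inv] at h2
      rwa [show m⁻¹ * a * m = e.t by rw [← ea]; group] at h2)
    rw [show x = m * (m⁻¹ * x * m) * m⁻¹ by group]
    exact mul_mem (mul_mem hm (hCM h1)) (inv_mem hm)

end Emb

end CfsgLib.GW.Sig
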