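import Cfsg.Agent.Lib.GW.Sig.Lift
import Cfsg.Agent.Lib.GW.ZJFactor
import Cfsg.Agent.Lib.Fusion.NormalSubgroup

/-!
# Constrained subgroups

The structure `CoreR` packages `O_{r',r}` of a constrained subgroup at a Sylow `r`-subgroup.
-/

set_option autoImplicit false

namespace CfsgLib.GW.Sig

open Subgroup Cfsg
open CfsgLib.Signalizer (involution_sq involution_inv involution_ne_one orderOf_conj)

universe u

variable {G : Type u} [Group G] [Finite G] {r : ℕ} [Fact r.Prime] {H : Subgroup G}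

/-- `Z` is weakly closed in every `r`-subgroup containing it. -/
def WClosed (r : ℕ) (Z : Subgroup G) : Prop :=
  ∀ (Q : Subgroup G), IsPGroup r Q → Z ≤ Q → ∀ g : G, (∀ z ∈ Z, g * z * g⁻¹ ∈ Q) →
    g ∈ normalizer (Z : Set G)

theorem WClosed.le_normalizer {Z Q : Subgroup G} (h : WClosed r Z) (hQ : IsPGroup r Q)
    (hZ : Z ≤ Q) : Q ≤ normalizer (Z : Set G) := fun q hq =>
  h Q hQ hZ q fun _ hz => mul_mem (mul_mem hq (hZ hz)) (inv_mem hq)

/-- In a constrained subgroup `O_{r'}` is odd. -/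
theorem Constrained.map_pPrimeCore (hr : r ≠ 2) (hH : Constrained r H) :
    (pPrimeCore r ↥H).map H.subtype = thetaOf r H := by
  set K := (pPrimeCore r ↥H).map H.subtype with hK
  have hKn : H ≤ normalizer (K : Set G) := fun g hg =>
    mem_normalizer_of_conj fun _ hx => conj_mem_core r (le_normalizer hg) hx
  have hKc : (Nat.card K).Coprime r := by
    rw [hK, card_map_of_injective H.subtype_injective]
    exact CfsgLib.Core.coprime_card_pPrimeCore r ↥H
  have hKH : K ≤ H := map_subtype_le _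
  have hKo : Odd (Nat.card K) := by
    by_contra hno
    have : Fact (Nat.Prime 2) := ⟨Nat.prime_two⟩
    obtain ⟨x, hx⟩ := exists_prime_orderOf_dvd_card' (G := K) 2
      (even_iff_two_dvd.1 (Nat.not_odd_iff_even.1 hno))
    refine hH x ⟨hKH x.2, fun o ho => ?_⟩ (by rw [Subgroup.orderOf_coe, hx])
    have hle : oddOf H ⊓ K ≤ thetaOf r H :=
      le_thetaOf inf_le_left ((le_inf le_normalizer ((oddOf_le H).trans hKn)).trans
        CfsgLib.Transfer.normalizer_le_normalizer_inf)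
        (hKc.coprime_dvd_left (card_dvd_of_le inf_le_right))
    refine hle (Subgroup.mem_inf.2 ⟨mul_mem ((mem_normalizer_iff.1 (le_normalizer_oddOf H (hKH x.2)) o).1 ho)
      (inv_mem ho), ?_⟩)
    rw [show (x : G) * o * (x : G)⁻¹ * o⁻¹ = x * (o * (x : G)⁻¹ * o⁻¹) by group]
    exact mul_mem x.2 ((mem_normalizer_iff.1 (hKn (oddOf_le H ho)) _).1 (inv_mem x.2))
  refine le_antisymm (le_thetaOf' hKH hKn hKo hKc) ?_
  haveI : ((thetaOf r H).subgroupOf H).Normal :=
    normal_subgroupOf_of_le_normalizer (le_normalizer_thetaOf r H)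
  intro x hx
  refine ⟨⟨x, thetaOf_le r H hx⟩, CfsgLib.Core.le_pPrimeCore (N := (thetaOf r H).subgroupOf H) ?_
    (by exact hx), rfl⟩
  rw [Nat.card_congr (subgroupOfEquivOfLe (thetaOf_le r H)).toEquiv]
  exact coprime_thetaOf r H

theorem Constrained.mem_pPrimeCore_iff (hr : r ≠ 2) (hH : Constrained r H) (x : H) :
    x ∈ pPrimeCore r ↥H ↔ (x : G) ∈ thetaOf r H := by
  rw [← hH.map_pPrimeCore hr]
  exact ⟨fun h => ⟨x, h, rfl⟩, fun ⟨y, hy, e⟩ => H.subtype_injective e ▸ hy⟩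

/-- `O_r` of the quotient by `O_{r'}` contains its centraliser. -/
theorem Constrained.centralizer_pCore_le (hr : r ≠ 2) (hH : Constrained r H) :
    centralizer (pCore r (↥H ⧸ pPrimeCore r ↥H) : Set (↥H ⧸ pPrimeCore r ↥H)) ≤
      pCore r (↥H ⧸ pPrimeCore r ↥H) := by
  set N := pPrimeCore r ↥H with hN
  set π := QuotientGroup.mk' N with hπ
  have hsurj : Function.Surjective π := QuotientGroup.mk'_surjective N
  set F := pCore r (↥H ⧸ N) with hF
  set C := centralizer (F : Set (↥H ⧸ N)) with hC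
  refine centralizer_pCore_le_of_solvable (CfsgLib.Core.pPrimeCore_quotient_pPrimeCore r _)
    (CfsgLib.OddLocal.FTFinal.odd_order_solvable ?_)
  suffices h : Odd (Nat.card (C.comap π)) by
    have h2 := (C.comap π).card_map_dvd π
    rw [map_comap_eq_self_of_surjective hsurj] at h2
    exact h.of_dvd_nat h2
  by_contra hno
  have : Fact (Nat.Prime 2) := ⟨Nat.prime_two⟩
  obtain ⟨x, hx⟩ := exists_prime_orderOf_dvd_card' (G := C.comap π) 2
    (even_iff_two_dvd.1 (Nat.not_odd_iff_even.1 hno))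
  set g : G := ((x : ↥H) : G) with hg
  have hgo : orderOf g = 2 := by rw [hg, Subgroup.orderOf_coe, Subgroup.orderOf_coe, hx]
  refine hH g ⟨(x : ↥H).2, fun o ho => ?_⟩ hgo
  have hoH : o ∈ H := oddOf_le H ho
  set c : ↥H := ⟨g * o * g⁻¹ * o⁻¹, mul_mem (mul_mem (mul_mem (x : ↥H).2 hoH)
    (inv_mem (x : ↥H).2)) (inv_mem hoH)⟩ with hc
  rw [show g * o * g⁻¹ * o⁻¹ = (c : G) from rfl, ← hH.mem_pPrimeCore_iff hr]
  -- the image of the core centralises nothing outside `O_r`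
  set O₁ := ((oddOf H).subgroupOf H).map π with hO₁
  haveI : ((oddOf H).subgroupOf H).Normal :=
    normal_subgroupOf_of_le_normalizer (le_normalizer_oddOf H)
  haveI hO₁n : O₁.Normal := Subgroup.Normal.map inferInstance π hsurj
  have hO₁o : Odd (Nat.card O₁) := ((odd_oddOf H).of_dvd_nat (by
    refine (((oddOf H).subgroupOf H).card_map_dvd π).trans ?_
    exact (Nat.card_congr (subgroupOfEquivOfLe (oddOf_le H)).toEquiv).dvd))
  set xq := π (x : ↥H) with hxq
  set oq := π ⟨o, hoH⟩ with hoq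
  have hcq : π c = xq * oq * xq⁻¹ * oq⁻¹ := by
    rw [hxq, hoq, ← map_inv, ← map_inv, ← map_mul, ← map_mul, ← map_mul]; rfl
  have hoqO : oq ∈ O₁ := ⟨⟨o, hoH⟩, ho, rfl⟩
  have hcO : π c ∈ O₁ := by
    rw [hcq]
    exact mul_mem (Subgroup.Normal.conj_mem hO₁n _ hoqO _) (inv_mem hoqO)
  have hxC : ∀ f ∈ F, f * xq = xq * f := fun f hf => mem_centralizer_iff.1 x.2 f hf
  haveI : F.Normal := CfsgLib.Core.normal_pCore r _
  have hcC : π c ∈ C := by
    rw [mem_centralizer_iff]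
    intro f hf
    have h1 : oq * f * oq⁻¹ ∈ F := Subgroup.Normal.conj_mem inferInstance f hf oq
    have h2 : oq⁻¹ * f * oq ∈ F := Subgroup.Normal.conj_mem' inferInstance f hf oq
    have e1 := hxC _ hf
    have e2 := hxC _ h2
    rw [hcq]
    calc f * (xq * oq * xq⁻¹ * oq⁻¹)
        = xq * (f * oq) * xq⁻¹ * oq⁻¹ := by simp only [← mul_assoc]; rw [e1]
      _ = xq * oq * ((oq⁻¹ * f * oq) * xq⁻¹) * oq⁻¹ := by group
      _ = xq * oq * (xq⁻¹ * (oq⁻¹ * f * oq)) * oq⁻¹ := by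
        rw [show (oq⁻¹ * f * oq) * xq⁻¹ = xq⁻¹ * (oq⁻¹ * f * oq) from
          ((show Commute (oq⁻¹ * f * oq) xq from e2).inv_right).eq]
      _ = xq * oq * xq⁻¹ * oq⁻¹ * f := by group
  have hxq2 : xq * xq = 1 := by
    rw [hxq, ← map_mul, show (x : ↥H) * (x : ↥H) = 1 from Subtype.ext (involution_sq hgo), map_one]
  have hcF : π c ∈ F := by
    haveI : Group.IsSolvable O₁ := CfsgLib.OddLocal.FTFinal.odd_order_solvable hO₁o
    have h0 : pPrimeCore r O₁ = ⊥ := by
      have := CfsgLib.Core.map_subtype_pPrimeCore_le (p := r) O₁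
      rw [CfsgLib.Core.pPrimeCore_quotient_pPrimeCore r _, le_bot_iff] at this
      exact (map_eq_bot_iff_of_injective _ O₁.subtype_injective).1 this
    have h1 := CfsgLib.Core.centralizer_pCore_le_of_pPrimeCore_eq_bot (G := O₁) h0
    refine CfsgLib.Core.map_subtype_pCore_le O₁ ⟨⟨π c, hcO⟩, h1 (mem_centralizer_iff.2 fun f hf =>
      Subtype.ext ?_), rfl⟩
    exact mem_centralizer_iff.1 hcC (f : ↥H ⧸ N) (CfsgLib.Core.map_subtype_pCore_le O₁ ⟨f, hf, rfl⟩)
  -- so it is fixed by the involution, which inverts it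
  have e1 : xq * π c * xq⁻¹ = π c := by rw [← hxC _ hcF, mul_inv_cancel_right]
  have e2 : xq * π c * xq⁻¹ = (π c)⁻¹ := by
    have hi : xq⁻¹ = xq := inv_eq_of_mul_eq_one_right hxq2
    rw [hcq, hi]
    calc xq * (xq * oq * xq * oq⁻¹) * xq = (xq * xq) * oq * xq * oq⁻¹ * xq := by simp only [mul_assoc]
      _ = oq * xq * oq⁻¹ * xq := by rw [hxq2, one_mul]
      _ = (xq * oq * xq * oq⁻¹)⁻¹ := by
        rw [mul_inv_rev, mul_inv_rev, mul_inv_rev, hi]
        group
  have hc1 : π c = 1 :=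
    eq_one_of_inv_self (odd_orderOf_of_mem hO₁o hcO) (by rw [← e2, e1])
  exact (QuotientGroup.eq_one_iff _).1 hc1

/-- `O_{r',r}(H)` at a Sylow subgroup `R` of `H`. -/
structure CoreR (r : ℕ) (H R P : Subgroup G) : Prop where
  le : P ≤ R
  factor : H ≤ thetaOf r H ⊔ (H ⊓ normalizer (P : Set G))
  self : ∀ x ∈ H, (∀ p ∈ P, x * p * x⁻¹ * p⁻¹ ∈ thetaOf r H) → x ∈ thetaOf r H ⊔ P
  normal : H ≤ normalizer ((thetaOf r H ⊔ P : Subgroup G) : Set G)
  quad : ∀ A : Subgroup G, A ≤ R → (∀ a ∈ A, ∀ b ∈ A, a * b = b * a) →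
    R ≤ normalizer (A : Set G) → A ≤ P

theorem exists_coreR (hr : r ≠ 2) (hnq : CfsgLib.PLocal.SLTwo.NoQd r G) (hH : Constrained r H)
    (R : Sylow r H) : ∃ P : Subgroup G, CoreR r H ((R : Subgroup H).map H.subtype) P := by
  set N := pPrimeCore r ↥H with hN
  set π := QuotientGroup.mk' N with hπ
  have hsurj : Function.Surjective π := QuotientGroup.mk'_surjective N
  set F := pCore r (↥H ⧸ N) with hF
  haveI : F.Normal := CfsgLib.Core.normal_pCore r _
  set L := F.comap π with hL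
  haveI : L.Normal := inferInstance
  set Q : Subgroup H := (R : Subgroup H) ⊓ L with hQ
  have hker : ∀ x : H, x ∈ N ↔ (x : G) ∈ thetaOf r H := hH.mem_pPrimeCore_iff hr
  have hNL : N ≤ L := fun x hx => by
    show π x ∈ F
    rw [show π x = 1 from (QuotientGroup.eq_one_iff x).2 hx]
    exact one_mem F
  obtain ⟨QS, hQS⟩ : ∃ QS : Sylow r L, (QS : Subgroup L).map L.subtype = Q := by
    obtain ⟨QS, hQS⟩ := CfsgLib.Fusion.isSylowIn_inf_normal R L
    exact ⟨QS, by rw [hQS, Subgroup.subgroupOf_map_subtype]; exact inf_eq_left.2 inf_le_right⟩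
  have hQL : N ⊔ Q = L := by
    refine le_antisymm (sup_le hNL inf_le_right) fun x hx => ?_
    have h1 : π x ∈ (Q.map π) := by
      have hRπ : F ≤ (R.mapSurjective hsurj : Subgroup (↥H ⧸ N)) :=
        CfsgLib.Core.pCore_le_sylow _
      obtain ⟨w, hw, e⟩ := hRπ hx
      refine ⟨w, ⟨hw, ?_⟩, e⟩
      show π w ∈ F
      rw [e]; exact hx
    obtain ⟨w, hw, e⟩ := h1
    have : w⁻¹ * x ∈ N := (QuotientGroup.eq).1 e
    have h2 : w * (w⁻¹ * x) ∈ Q ⊔ N := mul_mem (mem_sup_left hw) (mem_sup_right this)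
    rw [mul_inv_cancel_left, sup_comm] at h2
    exact h2
  refine ⟨Q.map H.subtype, map_mono inf_le_left, ?_, ?_, ?_, ?_⟩
  · intro x hx
    have h1 : normalizer (Q : Set H) ⊔ L = ⊤ := by
      have := QS.normalizer_sup_eq_top
      rwa [hQS] at this
    have h2 : (⟨x, hx⟩ : H) ∈ N ⊔ normalizer (Q : Set H) := by
      have h3 : (⟨x, hx⟩ : H) ∈ normalizer (Q : Set H) ⊔ L := h1 ▸ mem_top _
      rw [← hQL] at h3
      refine (sup_le le_sup_right (sup_le le_sup_left ?_) :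
        normalizer (Q : Set H) ⊔ (N ⊔ Q) ≤ N ⊔ normalizer (Q : Set H)) h3
      exact le_normalizer.trans le_sup_right
    have h4 : x ∈ (N ⊔ normalizer (Q : Set H)).map H.subtype := ⟨_, h2, rfl⟩
    rw [Subgroup.map_sup] at h4
    refine sup_le_sup (hH.map_pPrimeCore hr).le (le_inf (map_subtype_le _) ?_) h4
    exact le_normalizer_map H.subtype
  · intro x hx hcomm
    have h1 : (⟨x, hx⟩ : H) ∈ L := by
      refine hH.centralizer_pCore_le hr (mem_centralizer_iff.2 fun f hf => ?_)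
      obtain ⟨w, rfl⟩ := hsurj f
      have hw : w ∈ N ⊔ Q := hQL.symm ▸ hf
      obtain ⟨k, hk, q, hq, rfl⟩ := mem_sup_of_normal_left.1 hw
      have hq' : π (⟨x, hx⟩ * q * (⟨x, hx⟩ : H)⁻¹ * q⁻¹) = 1 :=
        (QuotientGroup.eq_one_iff _).2 ((hker _).2 (hcomm _ ⟨q, hq, rfl⟩))
      rw [map_mul, map_mul, map_mul, map_inv, map_inv, mul_inv_eq_one, mul_inv_eq_iff_eq_mul] at hq'
      have hkπ : π k = 1 := (QuotientGroup.eq_one_iff _).2 hk
      rw [map_mul, hkπ, one_mul, hq']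
    rw [← hQL] at h1
    have h2 : x ∈ (N ⊔ Q).map H.subtype := ⟨_, h1, rfl⟩
    rwa [Subgroup.map_sup, hH.map_pPrimeCore hr] at h2
  · rw [← hH.map_pPrimeCore hr, ← Subgroup.map_sup, hQL]
    intro x hx
    refine mem_normalizer_of_conj ?_
    rintro _ ⟨y, hy, rfl⟩
    exact ⟨⟨x, hx⟩ * y * ⟨x, hx⟩⁻¹, Subgroup.Normal.conj_mem inferInstance y hy _, rfl⟩
  · intro A hAR hcomm hRA a ha
    obtain ⟨⟨a', ha'H⟩, ha'R, rfl⟩ := hAR ha
    refine ⟨⟨a', ha'H⟩, ⟨ha'R, ?_⟩, rfl⟩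
    set aq := π ⟨a', ha'H⟩ with haq
    show aq ∈ F
    set A' := (A.subgroupOf H).map π with hA'
    have hAc : ∀ p ∈ A', ∀ q ∈ A', p * q = q * p := by
      rintro _ ⟨p, hp, rfl⟩ _ ⟨q, hq, rfl⟩
      rw [← map_mul, ← map_mul]
      exact congrArg π (Subtype.ext (hcomm _ hp _ hq))
    have haA : aq ∈ A' := ⟨⟨a', ha'H⟩, ha, rfl⟩
    have hFA : F ≤ normalizer (A' : Set (↥H ⧸ N)) := by
      intro f hf
      obtain ⟨w, hw, e⟩ := CfsgLib.Core.pCore_le_sylow (R.mapSurjective hsurj) hf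
      rw [← e]
      refine mem_normalizer_of_conj ?_
      rintro _ ⟨p, hp, rfl⟩
      refine ⟨w * p * w⁻¹, ?_, by simp⟩
      exact (mem_normalizer_iff.1 (hRA ⟨w, hw, rfl⟩) (p : G)).1 hp
    have hq2 : ⁅⁅F, zpowers aq⁆, zpowers aq⁆ = ⊥ := by
      rw [commutator_eq_bot_iff_le_centralizer]
      have h1 : ⁅F, zpowers aq⁆ ≤ A' := by
        rw [commutator_le]
        intro f hf g hg
        have hgA : g ∈ A' := zpowers_le.2 haA hg
        rw [commutatorElement_def]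
        exact mul_mem ((mem_normalizer_iff.1 (hFA hf) g).1 hgA) (inv_mem hgA)
      refine h1.trans fun p hp => mem_centralizer_iff.2 fun g hg => hAc g ?_ p hp
      exact zpowers_le.2 haA hg
    have hnq' : CfsgLib.PLocal.SLTwo.NoQd r (↥H ⧸ N) :=
      CfsgLib.PLocal.SLTwo.noQd_of_surjective π hsurj (CfsgLib.PLocal.SLTwo.noQd_subgroup hnq H)
    have h3 := CfsgLib.PLocal.SLTwo.mem_pCore_of_noQd hr hnq' F (CfsgLib.Core.isPGroup_pCore r _) hq2
    have hCF : centralizer (F : Set (↥H ⧸ N)) ≤ F := hH.centralizer_pCore_le hr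
    set ψ := QuotientGroup.mk' (centralizer (F : Set (↥H ⧸ N))) with hψ
    haveI : (pCore r ((↥H ⧸ N) ⧸ centralizer (F : Set (↥H ⧸ N)))).Normal :=
      CfsgLib.Core.normal_pCore r _
    set J := (pCore r ((↥H ⧸ N) ⧸ centralizer (F : Set (↥H ⧸ N)))).comap ψ with hJ
    have hJp : IsPGroup r J :=
      (CfsgLib.Core.isPGroup_pCore r _).comap_of_ker_isPGroup ψ (by
        rw [hψ, QuotientGroup.ker_mk']
        exact (CfsgLib.Core.isPGroup_pCore r (↥H ⧸ N)).to_le hCF)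
    exact CfsgLib.Core.le_pCore hJp h3

end CfsgLib.GW.Sig
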