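import Cfsg.Agent.Lib.GW.Sig.Pieces
import Cfsg.Agent.Lib.PLocal.SLTwo.ZJFusion
import Cfsg.Agent.Lib.Transfer.Conj

/-!
# The controlling subgroup

From an `r`-group normalised but not centralised by a rotated four-group we get a Sylow
`r`-subgroup `R`, a rotated four-group in a subgroup `X ≤ N(Z(J(R)))` controlling strong fusion in
`R`, and an `X`-invariant `E ≤ R` not centralised by the four-group.
-/

set_option autoImplicit false

namespace CfsgLib.GW.Sig

open Subgroup Cfsg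
open CfsgLib.Signalizer (involution_sq involution_inv involution_ne_one orderOf_conj)

universe u

variable {G : Type u} [Group G] [Finite G] {r : ℕ} [Fact r.Prime]

theorem three_pieces {E : Subgroup G} (hE : Odd (Nat.card E)) {t u g : G} (h : Rot t u g)
    (htE : t ∈ normalizer (E : Set G)) (huE : u ∈ normalizer (E : Set G))
    (hgE : g ∈ normalizer (E : Set G)) (hne : ¬ ∀ a ∈ E, Commute t a ∧ Commute u a) :
    (∃ a, a ≠ 1 ∧ Piece t u E a) ∧ (∃ a, a ≠ 1 ∧ Piece u t E a) ∧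
      (∃ a, a ≠ 1 ∧ Piece (t * u) t E a) := by
  have hgtu : g * (t * u) * g⁻¹ = t := by
    rw [show g * (t * u) * g⁻¹ = g * t * g⁻¹ * (g * u * g⁻¹) by group, h.conj1, h.conj2,
      ← mul_assoc, ← h.comm.eq, mul_assoc, involution_sq h.hu, mul_one]
  have m1 : ∀ {a}, a ≠ 1 → g * a * g⁻¹ ≠ 1 := fun ha e => ha (conj_eq_one_iff.1 e)
  have s1 : (∃ a, a ≠ 1 ∧ Piece t u E a) → ∃ a, a ≠ 1 ∧ Piece u t E a := by
    rintro ⟨a, ha, p⟩
    refine ⟨_, m1 ha, ?_⟩
    have q := (p.conj hgE).mul_left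
    rwa [h.conj1, h.conj2, show u * (t * u) = t by
      rw [h.comm.eq, ← mul_assoc, involution_sq h.hu, one_mul]] at q
  have s2 : (∃ a, a ≠ 1 ∧ Piece u t E a) → ∃ a, a ≠ 1 ∧ Piece (t * u) t E a := by
    rintro ⟨a, ha, p⟩
    refine ⟨_, m1 ha, ?_⟩
    have q := (p.conj hgE).mul_left
    rwa [h.conj1, h.conj2, mul_assoc, involution_sq h.hu, mul_one] at q
  have s3 : (∃ a, a ≠ 1 ∧ Piece (t * u) t E a) → ∃ a, a ≠ 1 ∧ Piece t u E a := by
    rintro ⟨a, ha, p⟩
    refine ⟨_, m1 ha, ?_⟩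
    have q := p.conj hgE
    rwa [hgtu, h.conj1] at q
  obtain ⟨a, ha, p | p | p⟩ := exists_piece hE h.ht h.hu h.ne h.comm htE huE hne
  · exact ⟨⟨a, ha, p⟩, s1 ⟨a, ha, p⟩, s2 (s1 ⟨a, ha, p⟩)⟩
  · exact ⟨s3 (s2 ⟨a, ha, p⟩), ⟨a, ha, p⟩, s2 ⟨a, ha, p⟩⟩
  · exact ⟨s3 ⟨a, ha, p⟩, s1 (s3 ⟨a, ha, p⟩), ⟨a, ha, p⟩⟩

omit [Fact r.Prime] in
/-- A rotated four-group survives in every supplement of an odd normal subgroup. -/
theorem exists_rot_in_supplement (σ : Base G) {K θ Y : Subgroup G} (hY : Y ≤ K)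
    (hθo : Odd (Nat.card θ)) (hθn : K ≤ normalizer (θ : Set G))
    (hfac : K ≤ θ ⊔ Y) {t u g : G} (h : Rot t u g) (ht : t ∈ K) (hg : g ∈ K) :
    ∃ t' u' g', t' ∈ Y ∧ u' ∈ Y ∧ g' ∈ Y ∧ Rot t' u' g' := by
  refine exists_rot σ.inj σ.range σ.pos Y fun hc => ?_
  set N := θ ⊔ oddPart Y with hN
  have hNo : Odd (Nat.card N) := by
    rw [← Nat.coprime_two_right, hN, sup_comm]
    exact CfsgLib.Core.coprime_card_sup (((oddPart_le Y).trans hY).trans hθn)
      (Nat.coprime_two_right.2 (odd_oddPart hc)) (Nat.coprime_two_right.2 hθo)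
  have hnorm : ∀ x ∈ K, x ∈ normalizer (N : Set G) := by
    intro x hx
    refine (sup_le (le_sup_left.trans le_normalizer) ?_ : θ ⊔ Y ≤ normalizer (N : Set G)) (hfac hx)
    intro y hy
    refine mem_normalizer_of_conj fun w hw => ?_
    have hle : N.map (MulAut.conj y).toMonoidHom ≤ N := by
      rw [hN, Subgroup.map_sup]
      refine sup_le_sup ?_ ?_
      · rintro _ ⟨o, ho, rfl⟩; exact (mem_normalizer_iff.1 (hθn (hY hy)) o).1 ho
      · rintro _ ⟨o, ho, rfl⟩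
        exact (mem_normalizer_iff.1 (normalizer_le_oddPart hc (le_normalizer hy)) o).1 ho
    exact hle (CfsgLib.Transfer.conj_mem_map_conj hw)
  -- a power of `g` of `2`-power exponent lies in `N`
  obtain ⟨n, hn, y, hy, e⟩ := (CfsgLib.Core.mem_sup_iff_mul' (hY.trans hθn)).1
    (by rw [sup_comm]; exact hfac hg : g ∈ Y ⊔ θ)
  obtain ⟨a, m, hm, hyo⟩ := Nat.exists_eq_two_pow_mul_odd (orderOf_pos y).ne'
  have hy2 : y ^ 2 ^ a ∈ oddPart Y := by
    refine (mem_oddPart hc).2 ⟨pow_mem hy _, ?_⟩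
    rw [orderOf_pow_of_dvd (pow_ne_zero _ two_ne_zero) (hyo ▸ dvd_mul_right _ _), hyo,
      Nat.mul_div_cancel_left _ (pow_pos two_pos a)]
    exact hm
  have hgN : g ^ 2 ^ a ∈ N := by
    have key : ∀ j : ℕ, g ^ j * (y ^ j)⁻¹ ∈ θ := by
      intro j
      induction j with
      | zero => simp
      | succ j ih =>
        have e1 : g ^ (j + 1) * (y ^ (j + 1))⁻¹ = (g ^ j * n * (g ^ j)⁻¹) * (g ^ j * (y ^ j)⁻¹) := by
          rw [pow_succ g, pow_succ' y, e]; group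
        rw [e1]
        exact mul_mem ((mem_normalizer_iff.1 (hθn (pow_mem hg j)) n).1 hn) ih
    have := mul_mem (mem_sup_left (key (2 ^ a))) (mem_sup_right hy2 : y ^ 2 ^ a ∈ N)
    rwa [inv_mul_cancel_right] at this
  -- its action moves `t` to another involution congruent to it
  have hconj : ∀ j : ℕ, (j % 3 = 0 → g ^ j * t * (g ^ j)⁻¹ = t) ∧
      (j % 3 = 1 → g ^ j * t * (g ^ j)⁻¹ = u) ∧ (j % 3 = 2 → g ^ j * t * (g ^ j)⁻¹ = t * u) := by
    intro j
    induction j with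
    | zero => simp
    | succ j ih =>
      obtain ⟨i0, i1, i2⟩ := ih
      have es : g ^ (j + 1) * t * (g ^ (j + 1))⁻¹ = g * (g ^ j * t * (g ^ j)⁻¹) * g⁻¹ := by
        rw [pow_succ']; group
      refine ⟨fun h0 => ?_, fun h1 => ?_, fun h2 => ?_⟩
      · rw [es, i2 (by omega), show g * (t * u) * g⁻¹ = g * t * g⁻¹ * (g * u * g⁻¹) by group,
          h.conj1, h.conj2, ← mul_assoc, ← h.comm.eq, mul_assoc, involution_sq h.hu, mul_one]
      · rw [es, i0 (by omega), h.conj1]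
      · rw [es, i1 (by omega), h.conj2]
  have hd : g ^ 2 ^ a * t * (g ^ 2 ^ a)⁻¹ * t⁻¹ ∈ N := by
    rw [show g ^ 2 ^ a * t * (g ^ 2 ^ a)⁻¹ * t⁻¹ = g ^ 2 ^ a * (t * (g ^ 2 ^ a)⁻¹ * t⁻¹) by group]
    exact mul_mem hgN ((mem_normalizer_iff.1 (hnorm t ht) _).1 (inv_mem hgN))
  have hmod : 2 ^ a % 3 = 1 ∨ 2 ^ a % 3 = 2 := by
    have h3 : ¬ 3 ∣ 2 ^ a := fun hdv =>
      absurd (Nat.le_of_dvd two_pos (Nat.prime_three.dvd_of_dvd_pow hdv)) (by omega)
    omega
  have key2 : ∀ w : G, orderOf w = 2 → w ∉ N := fun w hw hwN =>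
    involution_ne_one hw ((twoElt_of_involution hw).eq_one_of_mem hNo hwN)
  rcases hmod with hh | hh
  · rw [(hconj _).2.1 hh, involution_inv h.ht, ← h.comm.eq] at hd
    exact key2 _ h.prod_order hd
  · rw [(hconj _).2.2 hh, h.comm.eq, mul_inv_cancel_right] at hd
    exact key2 _ h.hu hd

theorem CoreR.le_normalizer {H : Subgroup G} {R P : Subgroup G} (h : CoreR r H R P)
    (hR : IsPGroup r R) (hRH : R ≤ H) : R ≤ normalizer (P : Set G) := by
  intro x hx
  refine mem_normalizer_of_conj fun p hp => ?_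
  have h1 : x * p * x⁻¹ ∈ thetaOf r H ⊔ P :=
    (mem_normalizer_iff.1 (h.normal (hRH hx)) p).1 (mem_sup_right hp)
  rw [sup_comm] at h1
  obtain ⟨q, hq, n, hn, e⟩ := (CfsgLib.Core.mem_sup_iff_mul
    ((h.le.trans hRH).trans (le_normalizer_thetaOf r H))).1 h1
  have hn1 : n = 1 := eq_one_of_mem_thetaOf hR (by
    rw [show n = q⁻¹ * (x * p * x⁻¹) by rw [e]; group]
    exact mul_mem (inv_mem (h.le hq)) (mul_mem (mul_mem hx (h.le hp)) (inv_mem hx))) hn
  rw [e, hn1, mul_one]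
  exact hq

/-- The data produced by maximality. -/
structure Ctx (G : Type u) [Group G] (r : ℕ) where
  R : Sylow r G
  X : Subgroup G
  E : Subgroup G
  t : G
  u : G
  g : G
  rot : Rot t u g
  ht : t ∈ X
  hu : u ∈ X
  hg : g ∈ X
  R_le : (R : Subgroup G) ≤ X
  X_le : X ≤ normalizer (centerThompsonAOf (R : Subgroup G) : Set G)
  factor : normalizer (centerThompsonAOf (R : Subgroup G) : Set G) ≤
    thetaOf r (normalizer (centerThompsonAOf (R : Subgroup G) : Set G)) ⊔ X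
  E_le : E ≤ (R : Subgroup G)
  E_norm : X ≤ normalizer (E : Set G)
  not_cent : ¬ ∀ a ∈ E, Commute t a ∧ Commute u a
  proper : normalizer (centerThompsonAOf (R : Subgroup G) : Set G) ≠ ⊤

theorem normalizer_ne_top [IsSimpleGroup G] {E : Subgroup G} (hE : E ≠ ⊥) (hodd : Odd (Nat.card E))
    (h2 : 2 ∣ Nat.card G) : normalizer (E : Set G) ≠ ⊤ := by
  intro h
  rw [normalizer_eq_top_iff] at h
  rcases h.eq_bot_or_eq_top with e | e
  · exact hE e
  · rw [e, card_top] at hodd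
    exact (Nat.not_even_iff_odd.2 hodd) (even_iff_two_dvd.2 h2)

theorem exists_ctx [IsSimpleGroup G] (σ : Base G) (hK : KFacts G r) (hr : r ≠ 2)
    (hnq : CfsgLib.PLocal.SLTwo.NoQd r G) {E₀ : Subgroup G} {t₀ u₀ g₀ : G} (hE₀ : IsPGroup r E₀)
    (hrot : Rot t₀ u₀ g₀) (ht₀ : t₀ ∈ normalizer (E₀ : Set G)) (hu₀ : u₀ ∈ normalizer (E₀ : Set G))
    (hg₀ : g₀ ∈ normalizer (E₀ : Set G))
    (hne₀ : ¬ ∀ a ∈ E₀, Commute t₀ a ∧ Commute u₀ a) :
    Nonempty (Ctx G r) := by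
  classical
  have hrp : r.Prime := Fact.out
  have h2G : 2 ∣ Nat.card G := hrot.ht ▸ orderOf_dvd_natCard t₀
  let s : Set (Subgroup G) := {E | IsPGroup r E ∧ ∃ t u g, Rot t u g ∧ t ∈ normalizer (E : Set G) ∧
    u ∈ normalizer (E : Set G) ∧ g ∈ normalizer (E : Set G) ∧ ¬ ∀ a ∈ E, Commute t a ∧ Commute u a}
  let ν : Subgroup G → ℕ := fun E => r ^ (Nat.card (normalizer (E : Set G))).factorization r
  obtain ⟨E, ⟨hEp, t, u, g, hR, htE, huE, hgE, hne⟩, hmax⟩ := Set.exists_max_image s ν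
    (Set.toFinite s) ⟨E₀, hE₀, t₀, u₀, g₀, hrot, ht₀, hu₀, hg₀, hne₀⟩
  set X₀ := normalizer (E : Set G) with hX₀
  have hEne : E ≠ ⊥ := fun e => hne fun a ha => by
    rw [e, mem_bot] at ha; subst ha; exact ⟨Commute.one_right t, Commute.one_right u⟩
  have hX₀top : X₀ ≠ ⊤ := normalizer_ne_top hEne (Setting.odd_of_pGroup hr hEp) h2G
  have hEX : E ≤ X₀ := le_normalizer
  obtain ⟨p1, p2, p3⟩ := three_pieces (Setting.odd_of_pGroup hr hEp) hR htE huE hgE hne
  have hC₀ : Constrained r X₀ :=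
    constrained_of_pieces σ hK hr hX₀top hEp hEX hR.ht hR.hu hR.ne hR.comm htE huE p1 p2 p3
  obtain ⟨RX⟩ : Nonempty (Sylow r X₀) := inferInstance
  set R' := (RX : Subgroup X₀).map X₀.subtype with hR'
  have hR'p : IsPGroup r R' := RX.2.map _
  have hER' : E ≤ R' := by
    haveI : (E.subgroupOf X₀).Normal := normal_in_normalizer
    have hp : IsPGroup r (E.subgroupOf X₀) := hEp.comap_of_injective _ X₀.subtype_injective
    exact (map_subgroupOf_eq_of_le hEX).symm.le.trans (map_mono (hp.le_sylow_of_normal RX))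
  have hfac := zj_factor_constrained hr hnq hC₀ RX
  set Z₁ := centerThompsonAOf R' with hZ₁
  -- a four-group in `X₀ ⊓ N(Z₁)` not centralising `E`
  obtain ⟨t', u', g', htY, huY, hgY, hR1⟩ := exists_rot_in_supplement σ
    (inf_le_left : X₀ ⊓ normalizer (Z₁ : Set G) ≤ X₀) (odd_thetaOf r X₀)
    (le_normalizer_thetaOf r X₀) hfac hR htE hgE
  have hne' : ¬ ∀ a ∈ E, Commute t' a ∧ Commute u' a := by
    intro hall
    set C := X₀ ⊓ centralizer (E : Set G) with hC
    have hCn : X₀ ≤ normalizer (C : Set G) := by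
      refine (le_inf le_normalizer ?_).trans CfsgLib.Transfer.normalizer_le_normalizer_inf
      exact CfsgLib.Signalizer.normalizer_le_normalizer_centralizer_set E
    have hCe : ¬ Odd (Nat.card C) := fun ho => involution_ne_one hR1.ht
      ((twoElt_of_involution hR1.ht).eq_one_of_mem ho
        ⟨htY.1, mem_centralizer_iff.2 fun a ha => ((hall a ha).1).eq.symm⟩)
    have hgC : ∀ {w : G}, w ∈ C → g * w * g⁻¹ ∈ C := fun hw =>
      (mem_normalizer_iff.1 (hCn hgE) _).1 hw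
    have hcom : ∀ {w : G}, w ∈ C → ∀ a ∈ E, Commute w a := fun hw a ha =>
      (mem_centralizer_iff.1 hw.2 a ha).symm
    have htu : t ∈ C ∧ u ∈ C := by
      have hgtu : g * (t * u) * g⁻¹ = t := by
        rw [show g * (t * u) * g⁻¹ = g * t * g⁻¹ * (g * u * g⁻¹) by group, hR.conj1, hR.conj2,
          ← mul_assoc, ← hR.comm.eq, mul_assoc, involution_sq hR.hu, mul_one]
      rcases σ.four_meets hCe hR.ht hR.hu hR.ne hR.comm (hCn htE) (hCn huE) with h | h | h
      · exact ⟨h, hR.conj1 ▸ hgC h⟩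
      · exact ⟨hgtu ▸ hgC (hR.conj2 ▸ hgC h), h⟩
      · have h' := hgtu ▸ hgC h
        exact ⟨h', hR.conj1 ▸ hgC h'⟩
    exact hne fun a ha => ⟨hcom htu.1 a ha, hcom htu.2 a ha⟩
  -- the normaliser of `Z₁`
  set H := normalizer (Z₁ : Set G) with hH
  have hR'H : R' ≤ H :=
    le_normalizer.trans (CfsgLib.PLocal.normalizer_le_normalizer_centerThompsonA R')
  have hR'ne : R' ≠ ⊥ := fun e => hEne (le_bot_iff.1 (e ▸ hER'))
  have hHtop : H ≠ ⊤ := normalizer_ne_top (CfsgLib.PLocal.centerThompsonA_ne_bot (p := r) hR'p hR'ne)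
    (Setting.odd_of_pGroup hr (hR'p.to_le (CfsgLib.PLocal.centerThompsonA_le _))) h2G
  obtain ⟨q1, q2, q3⟩ := three_pieces (Setting.odd_of_pGroup hr hEp) hR1 htY.1 huY.1 hgY.1 hne'
  have hCH : Constrained r H := constrained_of_pieces σ hK hr hHtop hEp (hER'.trans hR'H) hR1.ht
    hR1.hu hR1.ne hR1.comm htY.2 huY.2 q1 q2 q3
  obtain ⟨R₂, hR₂⟩ := exists_sylow_ge hR'p hR'H
  set R₂' := (R₂ : Subgroup H).map H.subtype with hR₂'
  have hR₂p : IsPGroup r R₂' := R₂.2.map _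
  obtain ⟨P, hP⟩ := exists_coreR hr hnq hCH R₂
  obtain ⟨t'', u'', g'', htX, huX, hgX, hR2⟩ := exists_rot_in_supplement σ
    (inf_le_left : H ⊓ normalizer (P : Set G) ≤ H) (odd_thetaOf r H)
    (le_normalizer_thetaOf r H) hP.factor hR1 htY.2 hgY.2
  have hneP : ¬ ∀ a ∈ P, Commute t'' a ∧ Commute u'' a := by
    intro hall
    have h1 := hP.self t'' htX.1 fun p hp => by
      rw [conj_eq_of_commute (hall p hp).1, mul_inv_cancel]; exact one_mem _
    have ho : Odd (Nat.card (thetaOf r H ⊔ P : Subgroup G)) := by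
      rw [← Nat.coprime_two_right, sup_comm]
      exact CfsgLib.Core.coprime_card_sup ((hP.le.trans (map_subtype_le _)).trans
        (le_normalizer_thetaOf r H)) (Nat.coprime_two_right.2
          (Setting.odd_of_pGroup hr (hR₂p.to_le hP.le))) (Nat.coprime_two_right.2 (odd_thetaOf r H))
    exact involution_ne_one hR2.ht ((twoElt_of_involution hR2.ht).eq_one_of_mem ho h1)
  have hR₂N : R₂' ≤ normalizer (P : Set G) := hP.le_normalizer hR₂p (map_subtype_le _)
  -- maximality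
  have hν : Nat.card R₂' ≤ Nat.card R' := by
    refine le_trans ?_ (le_trans (hmax P ⟨hR₂p.to_le hP.le, t'', u'', g'', hR2, htX.2, huX.2, hgX.2,
      hneP⟩) ?_)
    · obtain ⟨Q, hQ⟩ := exists_sylow_ge hR₂p hR₂N
      refine (Subgroup.card_le_of_le hQ).trans ?_
      rw [card_map_of_injective (normalizer (P : Set G)).subtype_injective, Q.card_eq_multiplicity]
    · rw [hR', card_map_of_injective X₀.subtype_injective, RX.card_eq_multiplicity]
  have hR₂eq : R' = R₂' := eq_of_le_of_card_ge hR₂ hν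
  obtain ⟨S, hS⟩ := hR'p.exists_le_sylow
  have hSR : (S : Subgroup G) = R' := by
    by_contra hne2
    have hlt := CfsgLib.Transfer.lt_inf_normalizer S.2 (lt_of_le_of_ne hS (Ne.symm hne2))
    have hN' : (S : Subgroup G) ⊓ normalizer (R' : Set G) ≤ H :=
      inf_le_right.trans (CfsgLib.PLocal.normalizer_le_normalizer_centerThompsonA R')
    obtain ⟨Q, hQ⟩ := exists_sylow_ge (S.2.to_le inf_le_left) hN'
    have h1 := (CfsgLib.Transfer.card_lt_of_lt hlt).trans_le (Subgroup.card_le_of_le hQ)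
    rw [card_map_of_injective H.subtype_injective, Q.card_eq_multiplicity,
      ← R₂.card_eq_multiplicity, hR₂eq, hR₂', card_map_of_injective H.subtype_injective] at h1
    exact lt_irrefl _ h1
  refine ⟨{ R := S, X := H ⊓ normalizer (P : Set G), E := P, t := t'', u := u'', g := g'',
            rot := hR2, ht := htX, hu := huX, hg := hgX, R_le := ?_, X_le := ?_, factor := ?_,
            E_le := ?_, E_norm := inf_le_right, not_cent := hneP, proper := ?_ }⟩
  · rw [hSR]; exact le_inf hR'H (hR₂eq ▸ hR₂N)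
  · rw [hSR]; exact inf_le_left
  · rw [hSR]; exact hP.factor
  · rw [hSR, hR₂eq]; exact hP.le
  · rw [hSR]; exact hHtop

namespace Ctx

variable (c : Ctx G r)

/-- `X` controls strong fusion in `R`. -/
theorem control (hr : r ≠ 2) (hnq : CfsgLib.PLocal.SLTwo.NoQd r G) {A : Set G}
    (hA : A ⊆ (c.R : Subgroup G)) {x : G} (hx : ∀ a ∈ A, x * a * x⁻¹ ∈ (c.R : Subgroup G)) :
    ∃ y ∈ c.X, ∀ a ∈ A, y * a * y⁻¹ = x * a * x⁻¹ := by
  obtain ⟨-, h⟩ := CfsgLib.PLocal.SLTwo.zjA_controls hr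
    (fun H _ _ hH _ S => CfsgLib.PLocal.SLTwo.stableAt_of_noQd hr
      (CfsgLib.PLocal.SLTwo.noQd_of_isSec hnq hH) (S : Subgroup H)) c.R A hA
  obtain ⟨m, hm, hma⟩ := h x (by rintro _ ⟨a, ha, rfl⟩; exact hx a ha)
  have hsup := c.factor hm
  obtain ⟨k, hk, y, hy, rfl⟩ := (CfsgLib.Core.mem_sup_iff_mul'
    (c.X_le.trans (le_normalizer_thetaOf r _))).1 (by rwa [sup_comm] at hsup)
  set θ := thetaOf r (normalizer (centerThompsonAOf (c.R : Subgroup G) : Set G)) with hθ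
  set K := θ ⊓ c.X with hKdef
  have hXK : c.X ≤ normalizer (K : Set G) :=
    (le_inf (c.X_le.trans (le_normalizer_thetaOf r _)) le_normalizer).trans
      CfsgLib.Transfer.normalizer_le_normalizer_inf
  -- the two images of the group generated by `A` are congruent modulo `K`
  set W := (closure A).map (MulAut.conj y).toMonoidHom with hW
  set W' := (closure A).map (MulAut.conj x).toMonoidHom with hW'
  have hAR : closure A ≤ (c.R : Subgroup G) := (closure_le _).2 hA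
  have hWX : W ≤ c.X := by
    rintro _ ⟨a, ha, rfl⟩
    exact mul_mem (mul_mem hy (c.R_le (hAR ha))) (inv_mem hy)
  have hW'R : W' ≤ (c.R : Subgroup G) := by
    rw [hW', MonoidHom.map_closure, closure_le]
    rintro _ ⟨a, ha, rfl⟩
    exact hx a ha
  have hle : W' ≤ W ⊔ K := by
    rw [hW', MonoidHom.map_closure, closure_le]
    rintro _ ⟨a, ha, rfl⟩
    show x * a * x⁻¹ ∈ W ⊔ K
    rw [hma a ha]
    have hwX : y * a * y⁻¹ ∈ c.X := hWX ⟨a, subset_closure ha, rfl⟩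
    have hw'X : k * y * a * (k * y)⁻¹ ∈ c.X := c.R_le (by rw [← hma a ha]; exact hx a ha)
    have e : (y * a * y⁻¹)⁻¹ * (k * y * a * (k * y)⁻¹) ∈ K := by
      refine Subgroup.mem_inf.2 ⟨?_, mul_mem (inv_mem hwX) hw'X⟩
      rw [show (y * a * y⁻¹)⁻¹ * (k * y * a * (k * y)⁻¹) =
        (y * a * y⁻¹)⁻¹ * k * (y * a * y⁻¹)⁻¹⁻¹ * k⁻¹ by group]
      exact mul_mem ((mem_normalizer_iff.1
        (le_normalizer_thetaOf r _ (c.X_le (inv_mem hwX))) k).1 hk) (inv_mem hk)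
    have h1 : y * a * y⁻¹ ∈ W := ⟨a, subset_closure ha, rfl⟩
    have h2 := mul_mem (mem_sup_left h1 : y * a * y⁻¹ ∈ W ⊔ K) (mem_sup_right e)
    rwa [mul_inv_cancel_left] at h2
  obtain ⟨e, he⟩ := IsPGroup.iff_card.1 (c.R.2.to_le hAR)
  obtain ⟨j, hj, hjW⟩ := CfsgLib.Core.exists_conj_eq_of_coprime (hWX.trans hXK) hle
    (by rw [hW', hW, CfsgLib.Transfer.card_map_conj, CfsgLib.Transfer.card_map_conj])
    (by
      rw [hW, CfsgLib.Transfer.card_map_conj, he]
      exact ((coprime_thetaOf r _).coprime_dvd_left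
        (card_dvd_of_le (inf_le_left : K ≤ θ))).symm.pow_left e)
    (Or.inl (CfsgLib.OddLocal.FTFinal.odd_order_solvable
      ((odd_thetaOf r _).of_dvd_nat (card_dvd_of_le (inf_le_left : K ≤ θ)))))
  refine ⟨j * y, mul_mem hj.2 hy, fun a ha => ?_⟩
  set w := y * a * y⁻¹ with hw
  have hwW : w ∈ W := ⟨a, subset_closure ha, rfl⟩
  have h1 : j * w * j⁻¹ ∈ W' := by
    rw [← hjW]; exact CfsgLib.Core.conj_mem_conj_smul hwW
  have h2 : x * a * x⁻¹ ∈ W' := ⟨a, subset_closure ha, rfl⟩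
  rw [show j * y * a * (j * y)⁻¹ = j * w * j⁻¹ by rw [hw]; group]
  -- two elements of `W'` congruent modulo `θ`
  refine (inv_mul_eq_one.1 (eq_one_of_mem_thetaOf (H := normalizer
    (centerThompsonAOf (c.R : Subgroup G) : Set G)) (r := r) (c.R.2.to_le hW'R)
    (mul_mem (inv_mem h2) h1) ?_)).symm
  rw [hma a ha, show k * y * a * (k * y)⁻¹ = k * w * k⁻¹ by rw [hw]; group]
  have hwH : w ∈ normalizer (centerThompsonAOf (c.R : Subgroup G) : Set G) := c.X_le (hWX hwW)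
  have hn := le_normalizer_thetaOf r (normalizer (centerThompsonAOf (c.R : Subgroup G) : Set G))
  rw [show (k * w * k⁻¹)⁻¹ * (j * w * j⁻¹) = k * (w⁻¹ * (k⁻¹ * j) * w) * j⁻¹ by group]
  refine mul_mem (mul_mem hk ?_) (inv_mem hj.1)
  have := (mem_normalizer_iff.1 (hn (inv_mem hwH)) _).1 (mul_mem (inv_mem hk) hj.1)
  rwa [inv_inv] at this

theorem wclosed (hr : r ≠ 2) (hnq : CfsgLib.PLocal.SLTwo.NoQd r G) {Z : Subgroup G}
    (hZR : Z ≤ (c.R : Subgroup G)) (hZX : c.X ≤ normalizer (Z : Set G)) : WClosed r Z := by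
  intro Q hQ hZQ x hx
  obtain ⟨m, hm⟩ := CfsgLib.TwoGroups.exists_conj_le_sylow c.R hQ
  have key : ∀ w : G, (∀ z ∈ Z, w * z * w⁻¹ ∈ (c.R : Subgroup G)) →
      w ∈ normalizer (Z : Set G) := by
    intro w hw
    obtain ⟨y, hy, hyz⟩ := c.control hr hnq (A := (Z : Set G)) hZR hw
    refine mem_normalizer_of_conj fun z hz => ?_
    rw [← hyz z hz]
    exact (mem_normalizer_iff.1 (hZX hy) z).1 hz
  have h1 : m ∈ normalizer (Z : Set G) :=
    key m fun z hz => hm (CfsgLib.TwoGroups.conj_mem_map_conj (hZQ hz))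
  have h2 : m * x ∈ normalizer (Z : Set G) := key (m * x) fun z hz => by
    rw [show m * x * z * (m * x)⁻¹ = m * (x * z * x⁻¹) * m⁻¹ by group]
    exact hm (CfsgLib.TwoGroups.conj_mem_map_conj (hx z hz))
  simpa using mul_mem (inv_mem h1) h2

end Ctx

end CfsgLib.GW.Sig
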