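import Cfsg.Agent.Lib.GW.Sig.Setup
import Cfsg.Agent.Lib.OddLocal.Final.OddOrder

/-!
# `O(H)`, `O_{r'}(O(H))` and the inner part of a subgroup
-/

set_option autoImplicit false

namespace CfsgLib.GW.Sig

open Subgroup Cfsg
open CfsgLib.Signalizer (involution_sq involution_inv involution_ne_one orderOf_conj)

universe u

variable {G : Type u} [Group G] [Finite G]

/-- A core defined for all groups, mapped to the conjugate subgroup. -/
theorem conj_mem_core {H : Subgroup G} (p : ℕ) {g : G} (hg : g ∈ normalizer (H : Set G)) {x : G}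
    (hx : x ∈ (pPrimeCore p ↥H).map H.subtype) :
    g * x * g⁻¹ ∈ (pPrimeCore p ↥H).map H.subtype := by
  have hHH : H.map (MulAut.conj g).toMonoidHom = H := CfsgLib.Transfer.map_conj_eq_self_iff.2 hg
  let e : H ≃* H :=
    (H.equivMapOfInjective _ (MulAut.conj g).injective).trans (MulEquiv.subgroupCongr hHH)
  obtain ⟨y, hy, rfl⟩ := hx
  refine ⟨e y, ?_, rfl⟩
  rw [SetLike.mem_coe, ← CfsgLib.Core.map_equiv_pPrimeCore e]
  exact ⟨y, hy, rfl⟩

/-! ### `O(H)` -/

theorem oddOf_le (H : Subgroup G) : oddOf H ≤ H := map_subtype_le _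

theorem odd_oddOf (H : Subgroup G) : Odd (Nat.card (oddOf H)) := by
  rw [oddOf, card_map_of_injective H.subtype_injective, ← Nat.coprime_two_right]
  exact CfsgLib.Core.coprime_card_pPrimeCore 2 ↥H

theorem conj_mem_oddOf {H : Subgroup G} {g : G} (hg : g ∈ normalizer (H : Set G)) {x : G}
    (hx : x ∈ oddOf H) : g * x * g⁻¹ ∈ oddOf H :=
  conj_mem_core 2 hg hx

theorem normalizer_le_oddOf (H : Subgroup G) :
    normalizer (H : Set G) ≤ normalizer (oddOf H : Set G) := fun _ hg =>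
  mem_normalizer_of_conj fun _ hx => conj_mem_oddOf hg hx

theorem le_normalizer_oddOf (H : Subgroup G) : H ≤ normalizer (oddOf H : Set G) :=
  le_normalizer.trans (normalizer_le_oddOf H)

/-- An odd subgroup normalised by `H` lies in the core. -/
theorem le_oddOf {H N : Subgroup G} (hN : N ≤ H) (hn : H ≤ normalizer (N : Set G))
    (ho : Odd (Nat.card N)) : N ≤ oddOf H := by
  haveI : (N.subgroupOf H).Normal := normal_subgroupOf_of_le_normalizer hn
  intro x hx
  refine ⟨⟨x, hN hx⟩, CfsgLib.Core.le_pPrimeCore (N := N.subgroupOf H) ?_ (by exact hx), rfl⟩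
  rw [Nat.card_congr (subgroupOfEquivOfLe hN).toEquiv, Nat.coprime_two_right]
  exact ho

theorem solvable_oddOf (H : Subgroup G) : Group.IsSolvable (oddOf H) :=
  CfsgLib.OddLocal.FTFinal.odd_order_solvable (odd_oddOf H)

/-! ### `O_{r'}(O(H))` -/

theorem thetaOf_le_oddOf (r : ℕ) (H : Subgroup G) : thetaOf r H ≤ oddOf H := map_subtype_le _

theorem thetaOf_le (r : ℕ) (H : Subgroup G) : thetaOf r H ≤ H :=
  (thetaOf_le_oddOf r H).trans (oddOf_le H)

theorem coprime_thetaOf (r : ℕ) (H : Subgroup G) : (Nat.card (thetaOf r H)).Coprime r := by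
  rw [thetaOf, card_map_of_injective (oddOf H).subtype_injective]
  exact CfsgLib.Core.coprime_card_pPrimeCore r ↥(oddOf H)

theorem not_dvd_thetaOf (r : ℕ) [Fact r.Prime] (H : Subgroup G) :
    ¬ r ∣ Nat.card (thetaOf r H) :=
  (Nat.Prime.coprime_iff_not_dvd Fact.out).1 (coprime_thetaOf r H).symm

theorem odd_thetaOf (r : ℕ) (H : Subgroup G) : Odd (Nat.card (thetaOf r H)) :=
  (odd_oddOf H).of_dvd_nat (card_dvd_of_le (thetaOf_le_oddOf r H))

theorem conj_mem_thetaOf {r : ℕ} {H : Subgroup G} {g : G} (hg : g ∈ normalizer (H : Set G))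
    {x : G} (hx : x ∈ thetaOf r H) : g * x * g⁻¹ ∈ thetaOf r H :=
  conj_mem_core r (normalizer_le_oddOf H hg) hx

theorem normalizer_le_thetaOf (r : ℕ) (H : Subgroup G) :
    normalizer (H : Set G) ≤ normalizer (thetaOf r H : Set G) := fun _ hg =>
  mem_normalizer_of_conj fun _ hx => conj_mem_thetaOf hg hx

theorem le_normalizer_thetaOf (r : ℕ) (H : Subgroup G) : H ≤ normalizer (thetaOf r H : Set G) :=
  le_normalizer.trans (normalizer_le_thetaOf r H)

/-- An `r'`-subgroup of the core normalised by it lies in `thetaOf`. -/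
theorem le_thetaOf {r : ℕ} {H N : Subgroup G} (hN : N ≤ oddOf H)
    (hn : oddOf H ≤ normalizer (N : Set G)) (hc : (Nat.card N).Coprime r) : N ≤ thetaOf r H := by
  haveI : (N.subgroupOf (oddOf H)).Normal := normal_subgroupOf_of_le_normalizer hn
  intro x hx
  refine ⟨⟨x, hN hx⟩, CfsgLib.Core.le_pPrimeCore (N := N.subgroupOf (oddOf H)) ?_ (by exact hx), rfl⟩
  rwa [Nat.card_congr (subgroupOfEquivOfLe hN).toEquiv]

/-- An odd normal `r'`-subgroup lies in `thetaOf`. -/
theorem le_thetaOf' {r : ℕ} {H N : Subgroup G} (hN : N ≤ H) (hn : H ≤ normalizer (N : Set G))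
    (ho : Odd (Nat.card N)) (hc : (Nat.card N).Coprime r) : N ≤ thetaOf r H :=
  le_thetaOf (le_oddOf hN hn ho) ((oddOf_le H).trans hn) hc

/-- An `r`-element of `thetaOf` is trivial. -/
theorem eq_one_of_mem_thetaOf {r : ℕ} [Fact r.Prime] {H A : Subgroup G} (hA : IsPGroup r A) {x : G}
    (hxA : x ∈ A) (hx : x ∈ thetaOf r H) : x = 1 := by
  obtain ⟨k, hk⟩ := IsPGroup.iff_card.1 hA
  have h : A ⊓ thetaOf r H = ⊥ :=
    inf_eq_bot_of_coprime (hk ▸ ((coprime_thetaOf r H).pow_right k).symm)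
  exact mem_bot.1 (h ▸ ⟨hxA, hx⟩)

/-! ### `fixCore` and `inner` -/

/-- The elements of `H` acting trivially on `O(H) / thetaOf r H`. -/
def fixCore (r : ℕ) (H : Subgroup G) : Subgroup G where
  carrier := {x | x ∈ H ∧ ∀ o ∈ oddOf H, x * o * x⁻¹ * o⁻¹ ∈ thetaOf r H}
  one_mem' := ⟨one_mem H, fun o _ => by simp⟩
  mul_mem' := by
    rintro x y ⟨hx, hx'⟩ ⟨hy, hy'⟩
    refine ⟨mul_mem hx hy, fun o ho => ?_⟩
    rw [show x * y * o * (x * y)⁻¹ * o⁻¹ = x * (y * o * y⁻¹ * o⁻¹) * x⁻¹ * (x * o * x⁻¹ * o⁻¹) by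
      group]
    exact mul_mem (conj_mem_thetaOf (le_normalizer hx) (hy' o ho)) (hx' o ho)
  inv_mem' := by
    rintro x ⟨hx, hx'⟩
    refine ⟨inv_mem hx, fun o ho => ?_⟩
    have h := conj_mem_thetaOf (le_normalizer (inv_mem hx)) (inv_mem (hx' o ho))
    have e : x⁻¹ * (x * o * x⁻¹ * o⁻¹)⁻¹ * x⁻¹⁻¹ = x⁻¹ * o * x⁻¹⁻¹ * o⁻¹ := by group
    rwa [e] at h

theorem mem_fixCore {r : ℕ} {H : Subgroup G} {x : G} :
    x ∈ fixCore r H ↔ x ∈ H ∧ ∀ o ∈ oddOf H, x * o * x⁻¹ * o⁻¹ ∈ thetaOf r H := Iff.rfl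

theorem fixCore_le (r : ℕ) (H : Subgroup G) : fixCore r H ≤ H := fun _ h => h.1

theorem normalizer_le_fixCore (r : ℕ) (H : Subgroup G) :
    normalizer (H : Set G) ≤ normalizer (fixCore r H : Set G) := fun g hg =>
  mem_normalizer_of_conj fun x hx => by
    refine ⟨(mem_normalizer_iff.1 hg x).1 hx.1, fun o ho => ?_⟩
    have h1 : g⁻¹ * o * g⁻¹⁻¹ ∈ oddOf H := conj_mem_oddOf (inv_mem hg) ho
    rw [inv_inv] at h1
    have h2 := conj_mem_thetaOf hg (hx.2 _ h1)
    rwa [show g * (x * (g⁻¹ * o * g) * x⁻¹ * (g⁻¹ * o * g)⁻¹) * g⁻¹ =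
      g * x * g⁻¹ * o * (g * x * g⁻¹)⁻¹ * o⁻¹ by group] at h2

/-- `H` is constrained when no involution acts trivially on `O(H) / thetaOf r H`. -/
def Constrained (r : ℕ) (H : Subgroup G) : Prop := ∀ x ∈ fixCore r H, orderOf x ≠ 2

/-- `O(H)` and the `2`-elements of `fixCore`. -/
noncomputable def inner (r : ℕ) (H : Subgroup G) : Subgroup G :=
  oddOf H ⊔ closure {x | x ∈ fixCore r H ∧ TwoElt x}

theorem TwoElt.conj {x : G} (h : TwoElt x) (g : G) : TwoElt (g * x * g⁻¹) := by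
  obtain ⟨k, hk⟩ := h
  exact ⟨k, by rw [conj_pow, hk, mul_one, mul_inv_cancel]⟩

theorem twoElt_of_involution {x : G} (h : orderOf x = 2) : TwoElt x :=
  ⟨1, by rw [pow_one, ← h, pow_orderOf_eq_one]⟩

theorem twoElt_of_mem {P : Subgroup G} (hP : IsPGroup 2 P) {x : G} (hx : x ∈ P) : TwoElt x := by
  obtain ⟨k, hk⟩ := hP ⟨x, hx⟩
  exact ⟨k, congrArg Subtype.val hk⟩

theorem inner_le (r : ℕ) (H : Subgroup G) : inner r H ≤ H :=
  sup_le (oddOf_le H) ((closure_le H).2 fun _ hx => fixCore_le r H hx.1)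

theorem normalizer_le_inner (r : ℕ) (H : Subgroup G) :
    normalizer (H : Set G) ≤ normalizer (inner r H : Set G) := fun g hg =>
  mem_normalizer_of_conj fun x hx => by
    have h : (inner r H).map (MulAut.conj g).toMonoidHom ≤ inner r H := by
      rw [inner, Subgroup.map_sup, MonoidHom.map_closure]
      refine sup_le_sup ?_ (closure_mono ?_)
      · rintro _ ⟨o, ho, rfl⟩; exact conj_mem_oddOf hg ho
      · rintro _ ⟨y, ⟨hy, hy2⟩, rfl⟩
        exact ⟨(mem_normalizer_iff.1 (normalizer_le_fixCore r H hg) y).1 hy, hy2.conj g⟩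
    exact h (CfsgLib.Transfer.conj_mem_map_conj hx)

theorem innerLike {r : ℕ} {H : Subgroup G} (h : ¬ Constrained r H) :
    InnerLike H (inner r H) where
  le := inner_le r H
  normal := le_normalizer.trans (normalizer_le_inner r H)
  core_le := le_sup_left
  even := by
    simp only [Constrained, not_forall, not_not] at h
    obtain ⟨x, hx, hxo⟩ := h
    have hxN : x ∈ inner r H := mem_sup_right (subset_closure ⟨hx, twoElt_of_involution hxo⟩)
    intro ho
    have := ho.of_dvd_nat (orderOf_dvd_natCard _ hxN)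
    rw [hxo] at this
    exact absurd this (by decide)
  gen := sup_le le_sup_left ((closure_le _).2 fun _ hx =>
    mem_sup_right (subset_closure ⟨mem_sup_right (subset_closure hx), hx.2⟩))

/-- The `2`-elements of `inner` act trivially on `O(H) / thetaOf r H`. -/
theorem mem_fixCore_of_inner {r : ℕ} {H : Subgroup G} {x : G} (hx : x ∈ inner r H)
    (h2 : TwoElt x) : x ∈ fixCore r H := by
  set M := fixCore r H ⊓ inner r H with hM
  have hle : inner r H ≤ oddOf H ⊔ M :=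
    sup_le le_sup_left ((closure_le _).2 fun y hy =>
      mem_sup_right ⟨hy.1, mem_sup_right (subset_closure hy)⟩)
  have hOM : oddOf H ≤ normalizer (M : Set G) := by
    intro o ho
    exact CfsgLib.Transfer.normalizer_le_normalizer_inf
      ⟨normalizer_le_fixCore r H (le_normalizer (oddOf_le H ho)),
        normalizer_le_inner r H (le_normalizer (oddOf_le H ho))⟩
  obtain ⟨o, ho, m, hm, e⟩ := (CfsgLib.Core.mem_sup_iff_mul hOM).1 (hle hx)
  obtain ⟨k, hk⟩ := h2
  -- modulo `M`, `x` is both a `2`-element and an element of `O(H)`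
  let K := oddOf H ⊔ M
  haveI hMn : (M.subgroupOf K).Normal :=
    normal_subgroupOf_of_le_normalizer (sup_le hOM le_normalizer)
  let π := QuotientGroup.mk' (M.subgroupOf K)
  have hxo : π ⟨x, hle hx⟩ = π ⟨o, mem_sup_left ho⟩ := by
    refine (QuotientGroup.eq (s := M.subgroupOf K)).2 ?_
    rw [mem_subgroupOf]
    show x⁻¹ * o ∈ M
    rw [e, show (o * m)⁻¹ * o = m⁻¹ by group]
    exact inv_mem hm
  have h1 : (π ⟨x, hle hx⟩) ^ 2 ^ k = 1 := by
    rw [← map_pow, show (⟨x, hle hx⟩ : K) ^ 2 ^ k = 1 from Subtype.ext hk, map_one]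
  have h3 : (π ⟨o, mem_sup_left ho⟩) ^ orderOf o = 1 := by
    rw [← map_pow, show (⟨o, mem_sup_left ho⟩ : K) ^ orderOf o = 1 from
      Subtype.ext (pow_orderOf_eq_one o), map_one]
  have h4 : π ⟨x, hle hx⟩ = 1 := orderOf_eq_one_iff.1 (Nat.eq_one_of_dvd_coprimes
    ((Nat.coprime_two_left.2 (odd_orderOf_of_mem (odd_oddOf H) ho)).pow_left k)
    (orderOf_dvd_of_pow_eq_one h1) (orderOf_dvd_of_pow_eq_one (hxo ▸ h3)))
  have h5 : (⟨x, hle hx⟩ : K) ∈ M.subgroupOf K := (QuotientGroup.eq_one_iff _).1 h4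
  exact (mem_subgroupOf.1 h5).1

end CfsgLib.GW.Sig
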