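import Cfsg.Agent.Lib.GW.Sig.Constrained
import Cfsg.Agent.Lib.PLocal.PStable

/-!
# Factorisations and balance in constrained subgroups
-/

set_option autoImplicit false

namespace CfsgLib.GW.Sig

open Subgroup Cfsg
open CfsgLib.Signalizer (involution_sq involution_inv involution_ne_one orderOf_conj)

universe u

variable {G : Type u} [Group G] [Finite G] {r : ℕ} [Fact r.Prime] {H : Subgroup G}

theorem exists_sylow_ge {Z : Subgroup G} (hZ : IsPGroup r Z) (hZH : Z ≤ H) :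
    ∃ R : Sylow r H, Z ≤ (R : Subgroup H).map H.subtype := by
  obtain ⟨R, hR⟩ := (hZ.comap_of_injective H.subtype H.subtype_injective :
    IsPGroup r (Z.subgroupOf H)).exists_le_sylow
  exact ⟨R, (map_subgroupOf_eq_of_le hZH).symm.le.trans (map_mono hR)⟩

theorem factor_of_wclosed (hr : r ≠ 2) (hnq : CfsgLib.PLocal.SLTwo.NoQd r G)
    (hH : Constrained r H) {Z : Subgroup G} (hZp : IsPGroup r Z) (hZw : WClosed r Z)
    (hZc : ∀ a ∈ Z, ∀ b ∈ Z, a * b = b * a) (hZH : Z ≤ H) :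
    H ≤ thetaOf r H ⊔ (H ⊓ normalizer (Z : Set G)) ∧
      H ≤ normalizer ((thetaOf r H ⊔ Z : Subgroup G) : Set G) := by
  obtain ⟨R, hZR⟩ := exists_sylow_ge hZp hZH
  obtain ⟨P, hP⟩ := exists_coreR hr hnq hH R
  have hRp : IsPGroup r ((R : Subgroup H).map H.subtype) := R.2.map _
  have hPp : IsPGroup r P := hRp.to_le hP.le
  have hZP : Z ≤ P := hP.quad Z hZR hZc (hZw.le_normalizer hRp hZR)
  have hfac : H ≤ thetaOf r H ⊔ (H ⊓ normalizer (Z : Set G)) := by
    refine hP.factor.trans (sup_le le_sup_left (le_sup_of_le_right (le_inf inf_le_left ?_)))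
    intro g hg
    exact hZw P hPp hZP g fun z hz => (mem_normalizer_iff.1 hg.2 z).1 (hZP hz)
  refine ⟨hfac, hfac.trans (sup_le (le_sup_left.trans le_normalizer) fun g hg => ?_)⟩
  refine mem_normalizer_of_conj fun w hw => ?_
  have h : (thetaOf r H ⊔ Z).map (MulAut.conj g).toMonoidHom ≤ thetaOf r H ⊔ Z := by
    rw [Subgroup.map_sup]
    refine sup_le_sup ?_ ?_
    · rintro _ ⟨x, hx, rfl⟩; exact conj_mem_thetaOf (le_normalizer hg.1) hx
    · rintro _ ⟨x, hx, rfl⟩; exact (mem_normalizer_iff.1 hg.2 x).1 hx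
  exact h (CfsgLib.Transfer.conj_mem_map_conj hw)

/-- `r'`-subgroups invariant under a Sylow subgroup lie in `thetaOf`. -/
theorem le_thetaOf_of_invariant (hr : r ≠ 2) (hnq : CfsgLib.PLocal.SLTwo.NoQd r G)
    (hH : Constrained r H) {R : Sylow r H} {Y : Subgroup G} (hY : Y ≤ H)
    (hYc : (Nat.card Y).Coprime r)
    (hRY : (R : Subgroup H).map H.subtype ≤ normalizer (Y : Set G)) : Y ≤ thetaOf r H := by
  obtain ⟨P, hP⟩ := exists_coreR hr hnq hH R
  have hPp : IsPGroup r P := (R.2.map _).to_le hP.le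
  have hθP : P ≤ normalizer (thetaOf r H : Set G) :=
    (hP.le.trans (map_subtype_le _)).trans (le_normalizer_thetaOf r H)
  -- elements of `r'`-order of `θ P` lie in `θ`
  have key : ∀ w ∈ thetaOf r H ⊔ P, w ∈ Y → w ∈ thetaOf r H := by
    intro w hw hwY
    obtain ⟨q, hq, n, hn, e⟩ := (CfsgLib.Core.mem_sup_iff_mul hθP).1 (by rwa [sup_comm] at hw)
    obtain ⟨k, hk⟩ := hPp ⟨q, hq⟩
    have hqk : q ^ r ^ k = 1 := congrArg Subtype.val hk
    have hmod : ∀ j : ℕ, (q * n) ^ j * (q ^ j)⁻¹ ∈ thetaOf r H := by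
      intro j
      induction j with
      | zero => simp
      | succ j ih =>
        rw [show (q * n) ^ (j + 1) * (q ^ (j + 1))⁻¹ =
          ((q * n) ^ j * (q ^ j)⁻¹) * (q ^ (j + 1) * n * (q ^ (j + 1))⁻¹) by
          rw [pow_succ (q * n), pow_succ q]; group]
        exact mul_mem ih ((mem_normalizer_iff.1 (hθP (pow_mem hq _)) n).1 hn)
    have h1 := hmod (r ^ k)
    rw [hqk, inv_one, mul_one, ← e] at h1
    have hcop : (r ^ k).Coprime (orderOf w) :=
      ((hYc.coprime_dvd_left (orderOf_dvd_natCard Y hwY)).pow_right k).symm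
    obtain ⟨m, hm⟩ := exists_pow_eq_self_of_coprime hcop
    exact hm ▸ pow_mem h1 m
  intro y hy
  refine key y (hP.self y (hY hy) fun p hp => ?_) hy
  refine key _ ?_ ?_
  · exact mul_mem ((mem_normalizer_iff.1 (hP.normal (hY hy)) p).1 (mem_sup_right hp))
      (inv_mem (mem_sup_right hp))
  · rw [show y * p * y⁻¹ * p⁻¹ = y * (p * y⁻¹ * p⁻¹) by group]
    exact mul_mem hy ((mem_normalizer_iff.1 (hRY (hP.le hp)) _).1 (inv_mem hy))

/-- Balance at a constrained subgroup: an `r'`-subgroup centralised by an `r`-element `a` and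
normalised by `C(a)` lies in `thetaOf`. -/
theorem balance (hr : r ≠ 2) (hH : Constrained r H) {a : G} (haH : a ∈ H)
    (hap : IsPGroup r (zpowers a)) {Y : Subgroup G} (hY : Y ≤ H)
    (hYc : (Nat.card Y).Coprime r) (hYa : Y ≤ centralizer ({a} : Set G))
    (hinv : H ⊓ centralizer ({a} : Set G) ≤ normalizer (Y : Set G)) : Y ≤ thetaOf r H := by
  set N := pPrimeCore r ↥H with hN
  set π := QuotientGroup.mk' N with hπ
  have hsurj : Function.Surjective π := QuotientGroup.mk'_surjective N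
  set F := pCore r (↥H ⧸ N) with hF
  haveI : F.Normal := CfsgLib.Core.normal_pCore r _
  have hFp : IsPGroup r F := CfsgLib.Core.isPGroup_pCore r _
  set Y' := (Y.subgroupOf H).map π with hY'
  have hY'c : (Nat.card Y').Coprime r := by
    refine hYc.coprime_dvd_left (((Y.subgroupOf H).card_map_dvd π).trans ?_)
    exact (Nat.card_congr (subgroupOfEquivOfLe hY).toEquiv).dvd
  set A' := zpowers (π ⟨a, haH⟩) with hA'
  have hA'p : IsPGroup r A' := by
    rw [hA', ← MonoidHom.map_zpowers]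
    refine IsPGroup.map ?_ π
    obtain ⟨k, hk⟩ := hap ⟨a, mem_zpowers a⟩
    rintro ⟨_, j, rfl⟩
    refine ⟨k, Subtype.ext (Subtype.ext ?_)⟩
    simp only [SubmonoidClass.coe_pow, OneMemClass.coe_one, SubgroupClass.coe_zpow]
    rw [← zpow_natCast, ← zpow_mul, mul_comm, zpow_mul, zpow_natCast,
      show a ^ r ^ k = 1 from congrArg Subtype.val hk, one_zpow]
  have hnorm : ∀ K : Subgroup (↥H ⧸ N), K ≤ normalizer (F : Set (↥H ⧸ N)) := fun K => by
    rw [normalizer_eq_top]; exact le_top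
  have hle := CfsgLib.Core.pq_lemma (P := A') (Q := Y') (U := F) hA'p hY'c hFp (by
      rw [hA', zpowers_le, mem_centralizer_iff]
      rintro _ ⟨y, hy, rfl⟩
      rw [← map_mul, ← map_mul]
      exact congrArg π (Subtype.ext (commute_of_mem_centralizer (hYa hy)).eq))
    (hnorm _) (hnorm _) (by
      rintro u ⟨huF, huA⟩
      obtain ⟨w, rfl⟩ := hsurj u
      -- a lift centralising `a`
      have hfix : ∀ b ∈ zpowers a, (w : G)⁻¹ * (b * w * b⁻¹) ∈ thetaOf r H := by
        intro b hb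
        have hbH : b ∈ H := zpowers_le.2 haH hb
        obtain ⟨j, rfl⟩ := hb
        have h1 : π (w⁻¹ * (⟨a ^ j, hbH⟩ * w * (⟨a ^ j, hbH⟩ : H)⁻¹)) = 1 := by
          have hc : π ⟨a ^ j, hbH⟩ * π w = π w * π ⟨a ^ j, hbH⟩ := by
            have : π ⟨a ^ j, hbH⟩ = π ⟨a, haH⟩ ^ j := by rw [← map_zpow]; rfl
            rw [this]
            exact mem_centralizer_iff.1 huA _ ⟨j, rfl⟩
          rw [map_mul, map_mul, map_mul, map_inv, map_inv, hc, mul_inv_cancel_right, inv_mul_cancel]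
        exact (hH.mem_pPrimeCore_iff hr _).1 ((QuotientGroup.eq_one_iff _).1 h1)
      obtain ⟨n, hn, hwc⟩ := CfsgLib.Core.exists_centralizing_in_coset
        ((zpowers_le.2 (le_normalizer_thetaOf r H haH)) :
          zpowers a ≤ normalizer (thetaOf r H : Set G))
        (by
          obtain ⟨k, hk⟩ := IsPGroup.iff_card.1 hap
          exact hk ▸ ((coprime_thetaOf r H).pow_right k).symm)
        (Or.inr (CfsgLib.OddLocal.FTFinal.odd_order_solvable (odd_thetaOf r H))) hfix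
      set w' : ↥H := ⟨w * n, mul_mem w.2 (thetaOf_le r H hn)⟩ with hw'
      have hπw : π w' = π w := by
        refine (QuotientGroup.eq).2 ((hH.mem_pPrimeCore_iff hr _).2 ?_)
        show ((w : G) * n)⁻¹ * w ∈ thetaOf r H
        rw [show ((w : G) * n)⁻¹ * w = n⁻¹ by group]
        exact inv_mem hn
      rw [← hπw] at huF ⊢
      have hwY : (w' : G) ∈ normalizer (Y : Set G) :=
        hinv ⟨w'.2, mem_centralizer_of_commute
          (mem_centralizer_iff.1 hwc a (mem_zpowers a)).symm⟩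
      rw [mem_centralizer_iff]
      rintro _ ⟨y, hy, rfl⟩
      have h1 : π (y * w' * y⁻¹ * w'⁻¹) ∈ F := by
        rw [map_mul, map_mul, map_mul, map_inv, map_inv]
        exact mul_mem (Subgroup.Normal.conj_mem inferInstance _ huF _) (inv_mem huF)
      have h2 : π (y * w' * y⁻¹ * w'⁻¹) ∈ Y' := by
        refine ⟨y * w' * y⁻¹ * w'⁻¹, ?_, rfl⟩
        show (y : G) * (w' : G) * (y : G)⁻¹ * (w' : G)⁻¹ ∈ Y
        rw [show (y : G) * (w' : G) * (y : G)⁻¹ * (w' : G)⁻¹ =
          y * ((w' : G) * (y : G)⁻¹ * (w' : G)⁻¹) by group]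
        exact mul_mem hy ((mem_normalizer_iff.1 hwY _).1 (inv_mem hy))
      have h3 : F ⊓ Y' = ⊥ := by
        obtain ⟨k, hk⟩ := IsPGroup.iff_card.1 hFp
        exact inf_eq_bot_of_coprime (hk ▸ (hY'c.pow_right k).symm)
      have h4 : π (y * w' * y⁻¹ * w'⁻¹) = 1 := mem_bot.1 (h3 ▸ ⟨h1, h2⟩)
      rwa [map_mul, map_mul, map_mul, map_inv, map_inv, mul_inv_eq_one, mul_inv_eq_iff_eq_mul] at h4)
  intro y hy
  have h1 : π ⟨y, hY hy⟩ ∈ F :=
    hH.centralizer_pCore_le hr (hle ⟨⟨y, hY hy⟩, hy, rfl⟩)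
  have h2 : π ⟨y, hY hy⟩ = 1 := by
    obtain ⟨k, hk⟩ := IsPGroup.iff_card.1 hFp
    have h3 : F ⊓ Y' = ⊥ := inf_eq_bot_of_coprime (hk ▸ (hY'c.pow_right k).symm)
    exact mem_bot.1 (h3 ▸ ⟨h1, ⟨⟨y, hY hy⟩, hy, rfl⟩⟩)
  exact (hH.mem_pPrimeCore_iff hr _).1 ((QuotientGroup.eq_one_iff _).1 h2)

/-- `H = O_{r'}(H) N_H(Z(J(R)))` for constrained subgroups containing a Sylow subgroup. -/
theorem zj_factor_constrained (hr : r ≠ 2) (hnq : CfsgLib.PLocal.SLTwo.NoQd r G)
    (hH : Constrained r H) (R : Sylow r H) :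
    H ≤ thetaOf r H ⊔
      (H ⊓ normalizer (centerThompsonAOf ((R : Subgroup H).map H.subtype) : Set G)) := by
  set N := pPrimeCore r ↥H with hN
  have hs : Group.IsSolvable (centralizer (pCore r (↥H ⧸ N) : Set (↥H ⧸ N))) := by
    obtain ⟨k, hk⟩ := IsPGroup.iff_card.1
      ((CfsgLib.Core.isPGroup_pCore r (↥H ⧸ N)).to_le (hH.centralizer_pCore_le hr))
    refine CfsgLib.OddLocal.FTFinal.odd_order_solvable ?_
    rw [hk]
    exact ((Fact.out : r.Prime).odd_of_ne_two hr).pow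
  have hfac := zj_factor hr (CfsgLib.PLocal.SLTwo.noQd_subgroup hnq H) hs R
  intro x hx
  have h1 : (⟨x, hx⟩ : H) ∈ N ⊔ normalizer (centerThompsonAOf (R : Subgroup H) : Set H) :=
    hfac ▸ mem_top _
  have h2 : x ∈ (N ⊔ normalizer (centerThompsonAOf (R : Subgroup H) : Set H)).map H.subtype :=
    ⟨_, h1, rfl⟩
  rw [Subgroup.map_sup] at h2
  refine sup_le_sup (hH.map_pPrimeCore hr).le (le_inf (map_subtype_le _) ?_) h2
  refine (le_normalizer_map H.subtype).trans ?_
  rw [CfsgLib.PLocal.centerThompsonA_map H.subtype _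
    (by rw [H.ker_subtype]; exact disjoint_bot_right)]

end CfsgLib.GW.Sig
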