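import Cfsg.Agent.Lib.GW.Sig.Cores
import Cfsg.Agent.Lib.Core.Coprime
import Cfsg.Agent.Lib.PGroups.Basic

/-!
# Lifting `2`-elements, odd invariant subgroups, and the involution in the inner part
-/

set_option autoImplicit false

namespace CfsgLib.GW.Sig

open Subgroup Cfsg
open CfsgLib.Signalizer (involution_sq involution_inv involution_ne_one orderOf_conj)

universe u

variable {G : Type u} [Group G] [Finite G]

theorem TwoElt.pow {x : G} (h : TwoElt x) (m : ℕ) : TwoElt (x ^ m) := by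
  obtain ⟨k, hk⟩ := h
  exact ⟨k, by rw [← pow_mul, mul_comm, pow_mul, hk, one_pow]⟩

theorem TwoElt.eq_one_of_mem {x : G} (h : TwoElt x) {K : Subgroup G} (hK : Odd (Nat.card K))
    (hx : x ∈ K) : x = 1 := by
  obtain ⟨k, hk⟩ := h
  exact orderOf_eq_one_iff.1 (Nat.eq_one_of_dvd_coprimes
    ((Nat.coprime_two_left.2 (odd_orderOf_of_mem hK hx)).pow_left k)
    (orderOf_dvd_of_pow_eq_one hk) dvd_rfl)

/-- A commutator in `O(H)` of a `2`-element of `fixCore` lies in `thetaOf`. -/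
theorem comm_mem_thetaOf {r : ℕ} {H : Subgroup G} {x a : G} (hx : x ∈ fixCore r H) (h2 : TwoElt x)
    (ha : a ∈ normalizer (H : Set G)) (h : a * x * a⁻¹ * x⁻¹ ∈ oddOf H) :
    a * x * a⁻¹ * x⁻¹ ∈ thetaOf r H := by
  obtain ⟨k, hk⟩ := h2
  set o := a * x * a⁻¹ * x⁻¹ with hodef
  have hox : o * x = a * x * a⁻¹ := by rw [hodef, inv_mul_cancel_right]
  -- `(o x) ^ m` and `o ^ m x ^ m` agree modulo `thetaOf`
  have key : ∀ m : ℕ, (o * x) ^ m * (o ^ m * x ^ m)⁻¹ ∈ thetaOf r H := by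
    intro m
    induction m with
    | zero => simp
    | succ m ih =>
      have hxm : ((o * x) ^ m) ∈ normalizer (thetaOf r H : Set G) :=
        le_normalizer_thetaOf r H (pow_mem (mul_mem (oddOf_le H h) hx.1) m)
      have h1 : x ^ m * o * (x ^ m)⁻¹ * o⁻¹ ∈ thetaOf r H := (pow_mem hx m).2 o h
      have h2 : o ^ m * (x ^ m * o * (x ^ m)⁻¹ * o⁻¹) * (o ^ m)⁻¹ ∈ thetaOf r H :=
        conj_mem_thetaOf (le_normalizer (pow_mem (oddOf_le H h) m)) h1
      have e : (o * x) ^ (m + 1) * (o ^ (m + 1) * x ^ (m + 1))⁻¹ =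
          ((o * x) ^ m * (o ^ m * x ^ m)⁻¹) *
            (o ^ m * (x ^ m * o * (x ^ m)⁻¹ * o⁻¹) * (o ^ m)⁻¹) := by
        rw [pow_succ (o * x), pow_succ o, pow_succ x]; group
      rw [e]
      exact mul_mem ih h2
  have h3 : (o * x) ^ 2 ^ k = 1 := by rw [hox, conj_pow, hk, mul_one, mul_inv_cancel]
  have h4 := key (2 ^ k)
  rw [h3, hk, mul_one, one_mul] at h4
  have h5 : o ^ 2 ^ k ∈ thetaOf r H := inv_mem_iff.1 h4
  have hcop : (2 ^ k).Coprime (orderOf o) :=
    (Nat.coprime_two_left.2 (odd_orderOf_of_mem (odd_oddOf H) h)).pow_left k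
  obtain ⟨m, hm⟩ := exists_pow_eq_self_of_coprime hcop
  exact hm ▸ pow_mem h5 m

/-- A `2`-element fixed modulo `thetaOf` by a group `B` of coprime order has a lift centralising `B`. -/
theorem exists_lift {r : ℕ} {H B : Subgroup G} (hB : B ≤ normalizer (H : Set G))
    (hcop : (Nat.card B).Coprime (Nat.card (thetaOf r H))) {x : G} (hx : x ∈ H) (h2 : TwoElt x)
    (hfix : ∀ b ∈ B, b * x * b⁻¹ * x⁻¹ ∈ thetaOf r H) :
    ∃ y : G, y ∈ H ∧ y ∈ centralizer (B : Set G) ∧ TwoElt y ∧ y * x⁻¹ ∈ thetaOf r H ∧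
      (orderOf x = 2 → orderOf y = 2) := by
  have hθn := le_normalizer_thetaOf r H
  obtain ⟨n, hn, hc⟩ := CfsgLib.Core.exists_centralizing_in_coset
    (hB.trans (normalizer_le_thetaOf r H)) hcop
    (Or.inr (CfsgLib.OddLocal.FTFinal.odd_order_solvable (odd_thetaOf r H))) (k := x) (fun b hb => by
      have h := conj_mem_thetaOf (le_normalizer (inv_mem hx)) (hfix b hb)
      rwa [inv_inv, show x⁻¹ * (b * x * b⁻¹ * x⁻¹) * x = x⁻¹ * (b * x * b⁻¹) by group] at h)
  set w := x * n with hw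
  have hwH : w ∈ H := mul_mem hx (thetaOf_le r H hn)
  obtain ⟨k, hk⟩ := h2
  obtain ⟨a, m, hm, hwo⟩ := Nat.exists_eq_two_pow_mul_odd (orderOf_pos w).ne'
  -- `m` is inverted modulo `2 ^ k`
  obtain ⟨i, hi⟩ : ∃ i : ℕ, x ^ (m * i) = x := by
    obtain ⟨i, hi⟩ := exists_pow_eq_self_of_coprime (n := m) (x := x)
      ((Nat.coprime_two_right.2 hm).pow_right k |>.coprime_dvd_right (orderOf_dvd_of_pow_eq_one hk))
    exact ⟨i, by rw [pow_mul]; exact hi⟩
  have hmod : ∀ j : ℕ, w ^ j * (x ^ j)⁻¹ ∈ thetaOf r H := by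
    intro j
    induction j with
    | zero => simp
    | succ j ih =>
      have e : w ^ (j + 1) * (x ^ (j + 1))⁻¹ =
          (w ^ j * (x ^ j)⁻¹) * (x ^ (j + 1) * n * (x ^ (j + 1))⁻¹) := by
        rw [pow_succ w, pow_succ x, hw]; group
      rw [e]
      exact mul_mem ih (conj_mem_thetaOf (le_normalizer (pow_mem hx _)) hn)
  refine ⟨w ^ (m * i), pow_mem hwH _, pow_mem hc _, ⟨a, ?_⟩, by simpa [hi] using hmod (m * i), ?_⟩
  · rw [← pow_mul, show m * i * 2 ^ a = 2 ^ a * m * i by ring, pow_mul, ← hwo, pow_orderOf_eq_one,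
      one_pow]
  · intro hx2
    refine CfsgLib.Signalizer.orderOf_eq_two_of ?_ ?_
    · intro e
      have h := hmod (m * i)
      rw [e, hi, one_mul] at h
      have := TwoElt.eq_one_of_mem (twoElt_of_involution hx2) (odd_thetaOf r H) (inv_mem_iff.1 h)
      exact involution_ne_one hx2 this
    · have ht : TwoElt (w ^ (m * i) * w ^ (m * i)) :=
        ⟨a, by rw [← pow_add, ← pow_mul, show (m * i + m * i) * 2 ^ a = 2 ^ a * m * (i + i) by ring,
          pow_mul, ← hwo, pow_orderOf_eq_one, one_pow]⟩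
      refine ht.eq_one_of_mem (odd_thetaOf r H) ?_
      have h := hmod (m * i + m * i)
      rwa [pow_add, pow_add, hi, involution_sq hx2, inv_one, mul_one] at h

/-- An odd subgroup invariant under the `2`-elements of `N` is centralised by them modulo the core. -/
theorem comm_mem_oddOf {H N Q : Subgroup G} (hN : InnerLike H N) (hQ : Q ≤ H)
    (hQo : Odd (Nat.card Q))
    (hinv : ∀ x ∈ N, TwoElt x → ∀ q ∈ Q, x * q * x⁻¹ ∈ Q ⊔ oddOf H) {x q : G} (hx : x ∈ N)
    (h2 : TwoElt x) (hq : q ∈ Q) : x * q * x⁻¹ * q⁻¹ ∈ oddOf H := by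
  set K := Q ⊔ oddOf H with hK
  have hKH : K ≤ H := sup_le hQ (oddOf_le H)
  have hKo : Odd (Nat.card K) := by
    rw [← Nat.coprime_two_right]
    exact CfsgLib.Core.coprime_card_sup (hQ.trans (le_normalizer_oddOf H))
      (Nat.coprime_two_right.2 hQo) (Nat.coprime_two_right.2 (odd_oddOf H))
  have hgen : oddOf H ⊔ closure {y | y ∈ N ∧ TwoElt y} ≤ normalizer (K : Set G) := by
    refine sup_le (le_sup_right.trans le_normalizer) ((closure_le _).2 fun y hy => ?_)
    refine mem_normalizer_of_conj fun w hw => ?_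
    have h : K.map (MulAut.conj y).toMonoidHom ≤ K := by
      rw [hK, Subgroup.map_sup]
      refine sup_le ?_ (le_sup_of_le_right ?_)
      · rintro _ ⟨q', hq', rfl⟩; exact hinv y hy.1 hy.2 q' hq'
      · rintro _ ⟨o, ho, rfl⟩; exact conj_mem_oddOf (le_normalizer (hN.le hy.1)) ho
    exact h (CfsgLib.Transfer.conj_mem_map_conj hw)
  have hNK : N ≤ normalizer (K : Set G) := hN.gen.trans hgen
  set L := N ⊓ K with hL
  have hLN : N ≤ normalizer (L : Set G) :=
    (le_inf le_normalizer hNK).trans CfsgLib.Transfer.normalizer_le_normalizer_inf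
  have h1 : L ≤ oddOf N :=
    le_oddOf inf_le_left hLN (hKo.of_dvd_nat (card_dvd_of_le inf_le_right))
  have h2' : oddOf N ≤ oddOf H :=
    le_oddOf ((oddOf_le N).trans hN.le) (hN.normal.trans (normalizer_le_oddOf N)) (odd_oddOf N)
  refine h2' (h1 (Subgroup.mem_inf.2 ⟨?_, ?_⟩))
  · rw [show x * q * x⁻¹ * q⁻¹ = x * (q * x⁻¹ * q⁻¹) by group]
    exact mul_mem hx ((mem_normalizer_iff.1 (hN.normal (hQ hq)) _).1 (inv_mem hx))
  · exact mul_mem ((mem_normalizer_iff.1 (hNK hx) q).1 (mem_sup_left hq))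
      (inv_mem (mem_sup_left hq))

namespace Base

variable (σ : Base G)

include σ in
/-- A subgroup of even order normalised by a four-group meets it. -/
theorem four_meets {N : Subgroup G} (hN : ¬ Odd (Nat.card N)) {t u : G} (ht : orderOf t = 2)
    (hu : orderOf u = 2) (hne : t ≠ u) (hc : Commute t u) (htN : t ∈ normalizer (N : Set G))
    (huN : u ∈ normalizer (N : Set G)) : t ∈ N ∨ u ∈ N ∨ t * u ∈ N := by
  classical
  have : Fact (Nat.Prime 2) := ⟨Nat.prime_two⟩
  set K := normalizer (N : Set G) with hK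
  set N' := N.subgroupOf K with hN'
  haveI : N'.Normal := normal_in_normalizer
  obtain ⟨P, hP⟩ := ((isPGroup_four ht hu hc).comap_of_injective K.subtype K.subtype_injective :
    IsPGroup 2 ((four t u).subgroupOf K)).exists_le_sylow
  have htP : (⟨t, htN⟩ : K) ∈ (P : Subgroup K) := hP (subset_closure (by simp) : t ∈ four t u)
  have huP : (⟨u, huN⟩ : K) ∈ (P : Subgroup K) := hP (subset_closure (by simp) : u ∈ four t u)
  obtain ⟨a, haN, hao⟩ : ∃ a ∈ N', orderOf a = 2 := by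
    have hcard : Nat.card N' = Nat.card N :=
      Nat.card_congr (subgroupOfEquivOfLe (le_normalizer : N ≤ K)).toEquiv
    obtain ⟨a, ha⟩ := exists_prime_orderOf_dvd_card' (G := N') 2
      (even_iff_two_dvd.1 (Nat.not_odd_iff_even.1 (hcard ▸ hN)))
    exact ⟨a, a.2, by rw [Subgroup.orderOf_coe, ha]⟩
  obtain ⟨c, hcP⟩ := CfsgLib.TwoGroups.exists_conj_le_sylow P
    (IsPGroup.of_card (n := 1) (by rw [Nat.card_zpowers, hao, pow_one]) : IsPGroup 2 (zpowers a))
  have hbP : c * a * c⁻¹ ∈ (P : Subgroup K) :=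
    hcP (CfsgLib.TwoGroups.conj_mem_map_conj (mem_zpowers a))
  have hbN : c * a * c⁻¹ ∈ N' := Subgroup.Normal.conj_mem inferInstance a haN c
  set M := N'.subgroupOf (P : Subgroup K) with hM
  haveI : M.Normal := inferInstance
  have hMne : M ≠ ⊥ := by
    intro e
    have h : (⟨_, hbP⟩ : (P : Subgroup K)) ∈ M := hbN
    rw [e, mem_bot] at h
    have h1 : c * a * c⁻¹ = 1 := congrArg Subtype.val h
    rw [conj_eq_one_iff] at h1
    rw [h1, orderOf_one] at hao
    exact absurd hao (by omega)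
  have hmc := CfsgLib.PGroups.inf_center_ne_bot (P.2 : IsPGroup 2 (P : Subgroup K)) (N := M) hMne
  obtain ⟨w, hw⟩ := exists_prime_orderOf_dvd_card' (G := ↥(M ⊓ center (P : Subgroup K))) 2 (by
    obtain ⟨k, hk, hcard⟩ :=
      ((P.2 : IsPGroup 2 (P : Subgroup K)).to_subgroup (M ⊓ center (P : Subgroup K))).nontrivial_iff_card.1
        ((nontrivial_iff_ne_bot _).2 hmc)
    exact hcard ▸ dvd_pow_self 2 hk.ne')
  set z : G := (((w : (P : Subgroup K)) : K) : G) with hz
  have hzN : z ∈ N := w.2.1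
  have hzo : orderOf z = 2 := by
    rw [hz, Subgroup.orderOf_coe, Subgroup.orderOf_coe, Subgroup.orderOf_coe, hw]
  have hzc : ∀ {s : G} (hs : s ∈ K), (⟨s, hs⟩ : K) ∈ (P : Subgroup K) → Commute s z := fun hs hsP =>
    congrArg (fun q : (P : Subgroup K) => ((q : K) : G)) (mem_center_iff.1 w.2.2 ⟨_, hsP⟩)
  rcases three_involutions σ.inj σ.range σ.pos ht hu (involution_sq hzo) hne hc (hzc htN htP)
    (hzc huN huP) with e | e | e | e
  · exact absurd e (involution_ne_one hzo)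
  · exact Or.inl (e ▸ hzN)
  · exact Or.inr (Or.inl (e ▸ hzN))
  · exact Or.inr (Or.inr (e ▸ hzN))

include σ in
/-- If `τ` normalises `H` and lies outside, the involution `z` of `H` lies in `N`. -/
theorem mem_of_outside {H N : Subgroup G} (hN : InnerLike H N) {z τ : G} (hz : orderOf z = 2)
    (hτ : orderOf τ = 2) (hc : Commute z τ) (hzH : z ∈ H) (hτH : τ ∉ H)
    (hτN : τ ∈ normalizer (N : Set G)) : z ∈ N := by
  have hne : z ≠ τ := fun e => hτH (e ▸ hzH)
  rcases σ.four_meets hN.even hz hτ hne hc (hN.normal hzH) hτN with h | h | h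
  · exact h
  · exact absurd (hN.le h) hτH
  · exact absurd (by simpa using mul_mem (inv_mem hzH) (hN.le h)) hτH

end Base

end CfsgLib.GW.Sig
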