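import Cfsg.Agent.Lib.GW.Sig.Abelian.End
import Cfsg.Agent.Lib.GW.Sig.ClassTwo.End

/-!
# A four-group with rotation fixes the `r`-subgroups it normalises

Assuming the facts `KFacts` about proper subgroups and `BigU`, no `r`-subgroup is normalised and
not centralised by a four-group whose involutions are rotated by an element normalising it.
-/

set_option autoImplicit false

namespace CfsgLib.GW.Sig

open Subgroup Cfsg

universe u

variable {G : Type u} [Group G] [Finite G] {r : ℕ} [Fact r.Prime]

/-- There is no `Ctx`. -/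
theorem false_of_ctx (S : Std G r) (c : Ctx G r) (hbig : BigU G r) : False := by
  by_cases h : ∀ Z : Subgroup G, Z ≤ (c.R : Subgroup G) → c.X ≤ normalizer (Z : Set G) →
      (∀ a ∈ Z, ∀ b ∈ Z, a * b = b * a) → (∀ a ∈ Z, a ^ r = 1) →
        ∀ a ∈ Z, Commute c.t a ∧ Commute c.u a
  · obtain ⟨d⟩ := exists_two S.odd c h
    exact d.false_of S
  · push Not at h
    obtain ⟨Z, hZR, hXZ, hcomm, hpow, a, ha, hne⟩ := h
    let d : AZ G r :=
      { Z := Z, t := c.t, u := c.u, g := c.g, rot := c.rot, ht := hXZ c.ht, hu := hXZ c.hu,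
        hg := hXZ c.hg, comm := hcomm, pow := hpow, wc := c.wclosed S.odd S.noQd hZR hXZ,
        not_cent := fun h' => hne (h' a ha).1 (h' a ha).2 }
    exact d.false_of_ctx S c hXZ hbig

/-- A four-group with rotation in `N(E)` centralises the `r`-subgroup `E`. -/
theorem commute_of_rot (S : Std G r) (hbig : BigU G r) {E : Subgroup G} {t u g : G}
    (hE : IsPGroup r E) (hrot : Rot t u g) (ht : t ∈ normalizer (E : Set G))
    (hu : u ∈ normalizer (E : Set G)) (hg : g ∈ normalizer (E : Set G)) :
    ∀ a ∈ E, Commute t a ∧ Commute u a := by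
  by_contra hne
  haveI := S.simple
  obtain ⟨c⟩ := exists_ctx S.base S.facts S.odd S.noQd hE hrot ht hu hg hne
  exact false_of_ctx S c hbig

end CfsgLib.GW.Sig
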