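import Cfsg.Agent.Lib.GW.Sig.Factor
import Cfsg.Agent.Lib.LocalEven.Generation

/-!
# The pieces of a group acted on by a four-group; constrained subgroups containing four-groups
-/

set_option autoImplicit false

namespace CfsgLib.GW.Sig

open Subgroup Cfsg
open CfsgLib.Signalizer (involution_sq involution_inv involution_ne_one orderOf_conj)

universe u

variable {G : Type u} [Group G]

/-- Elements centralised by `x` and inverted by `y`. -/
def Piece (x y : G) (E : Subgroup G) (a : G) : Prop :=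
  a ∈ E ∧ Commute x a ∧ y * a * y⁻¹ = a⁻¹

theorem Piece.pow {x y : G} {E : Subgroup G} {a : G} (h : Piece x y E a) (n : ℕ) :
    Piece x y E (a ^ n) :=
  ⟨pow_mem h.1 n, h.2.1.pow_right n, by rw [← conj_pow, h.2.2, inv_pow]⟩

theorem Piece.mono {x y : G} {E F : Subgroup G} {a : G} (h : Piece x y E a) (hle : E ≤ F) :
    Piece x y F a :=
  ⟨hle h.1, h.2⟩

theorem Piece.conj {x y : G} {E : Subgroup G} {a g : G} (h : Piece x y E a)
    (hg : g ∈ normalizer (E : Set G)) :
    Piece (g * x * g⁻¹) (g * y * g⁻¹) E (g * a * g⁻¹) := by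
  refine ⟨(mem_normalizer_iff.1 hg a).1 h.1, h.2.1.map (MulAut.conj g).toMonoidHom, ?_⟩
  rw [show g * y * g⁻¹ * (g * a * g⁻¹) * (g * y * g⁻¹)⁻¹ = g * (y * a * y⁻¹) * g⁻¹ by group, h.2.2]
  group

/-- The other involution of the four-group inverts as well. -/
theorem Piece.mul_left {x y : G} {E : Subgroup G} {a : G} (h : Piece x y E a) :
    Piece x (x * y) E a := by
  refine ⟨h.1, h.2.1, ?_⟩
  rw [show x * y * a * (x * y)⁻¹ = x * (y * a * y⁻¹) * x⁻¹ by group, h.2.2]
  exact (h.2.1.inv_right).eq ▸ mul_inv_cancel_right _ _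

theorem Piece.mul_right {x y : G} {E : Subgroup G} {a : G} (h : Piece x y E a) :
    Piece x (y * x) E a := by
  refine ⟨h.1, h.2.1, ?_⟩
  rw [show y * x * a * (y * x)⁻¹ = y * (x * a * x⁻¹) * y⁻¹ by group, conj_eq_of_commute h.2.1, h.2.2]

variable [Finite G]

/-- A pair of commuting involutions spans an elementary abelian group of order four. -/
theorem four_elementary {t u : G} (ht : orderOf t = 2) (hu : orderOf u = 2) (hne : t ≠ u)
    (hc : Commute t u) :
    IsMulCommutative (four t u) ∧ (∀ a ∈ four t u, a ^ 2 = 1) ∧ 2 ^ 2 ≤ Nat.card (four t u) := by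
  classical
  refine ⟨?_, ?_, ?_⟩
  · rw [isMulCommutative_iff]
    intro a b
    apply Subtype.ext
    have e1 : t * (t * u) = t * u * t := by rw [mul_assoc t u t, hc.eq]
    have e2 : u * (t * u) = t * u * u := by rw [← mul_assoc, ← hc.eq]
    rcases mem_four_cases ht hu hc a.2 with e | e | e | e <;>
      rcases mem_four_cases ht hu hc b.2 with e' | e' | e' | e' <;>
      simp [Subgroup.coe_mul, e, e', hc.eq.symm, e1, e2]
  · intro a ha
    rw [pow_two]
    rcases mem_four_cases ht hu hc ha with e | e | e | e <;> rw [e]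
    · exact one_mul 1
    · exact involution_sq ht
    · exact involution_sq hu
    · rw [← pow_two, hc.mul_pow, pow_two, pow_two, involution_sq ht, involution_sq hu, mul_one]
  · have hinj : Function.Injective (fun b : Bool × Bool =>
        (⟨(if b.1 then t else 1) * (if b.2 then u else 1),
          mul_mem (by split_ifs <;> first | exact one_mem _ | exact subset_closure (by simp))
            (by split_ifs <;> first | exact one_mem _ | exact subset_closure (by simp))⟩ :
          four t u)) := by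
      rintro ⟨a, b⟩ ⟨c, d⟩ e
      have e' := congrArg Subtype.val e
      have ht1 := involution_ne_one ht
      have hu1 := involution_ne_one hu
      have htu : t * u ≠ 1 := fun h =>
        hne ((mul_eq_one_iff_eq_inv.1 h).trans (involution_inv hu))
      rcases a <;> rcases b <;> rcases c <;> rcases d <;>
        simp [ht1, hu1, htu, hne, Ne.symm hne, Ne.symm ht1, Ne.symm hu1, Ne.symm htu] at e' ⊢
    have := Nat.card_le_card_of_injective _ hinj
    simpa using this

/-- A four-group acting non-trivially on an odd subgroup has a non-trivial piece. -/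
theorem exists_piece {E : Subgroup G} (hE : Odd (Nat.card E)) {t u : G} (ht : orderOf t = 2)
    (hu : orderOf u = 2) (hne : t ≠ u) (hc : Commute t u) (htE : t ∈ normalizer (E : Set G))
    (huE : u ∈ normalizer (E : Set G)) (h : ¬ ∀ a ∈ E, Commute t a ∧ Commute u a) :
    ∃ a, a ≠ 1 ∧ (Piece t u E a ∨ Piece u t E a ∨ Piece (t * u) t E a) := by
  by_contra hno
  push Not at hno
  apply h
  have : Fact (Nat.Prime 2) := ⟨Nat.prime_two⟩
  obtain ⟨hA, hexp, hcard⟩ := four_elementary ht hu hne hc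
  -- a difference of an element and its image
  have key : ∀ x y : G, orderOf y = 2 → Commute x y → y ∈ normalizer (E : Set G) → ∀ a ∈ E,
      Commute x a → ¬ Commute y a → ∃ d, d ≠ 1 ∧ Piece x y E d := by
    intro x y hy hxy hyE a ha hxa hya
    refine ⟨a⁻¹ * (y * a * y⁻¹), fun e => hya (commute_of_conj_eq (inv_mul_eq_one.1 e).symm),
      mul_mem (inv_mem ha) ((mem_normalizer_iff.1 hyE a).1 ha),
      hxa.inv_right.mul_right ((hxy.mul_right hxa).mul_right hxy.inv_right), ?_⟩
    rw [involution_inv hy, show y * (a⁻¹ * (y * a * y)) * y = y * a⁻¹ * y * a * (y * y) by group,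
      involution_sq hy, mul_one, mul_inv_rev, inv_inv, mul_inv_rev, mul_inv_rev, involution_inv hy]
    simp only [mul_assoc]
  have h2 : ¬ 2 ∣ Nat.card E := fun hd => Nat.not_even_iff_odd.2 hE (even_iff_two_dvd.2 hd)
  haveI := hA
  have hgen : E ≤ E ⊓ centralizer (four t u : Set G) := by
    refine CfsgLib.LocalEven.le_of_centralizers_le hexp hcard (four_le htE huE) h2 fun w hw hw1 => ?_
    rintro a ⟨ha, haw⟩
    have haw' : Commute w a := (commute_of_mem_centralizer haw).symm
    suffices h4 : Commute t a ∧ Commute u a by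
      refine ⟨ha, mem_centralizer_iff.2 fun v hv => ?_⟩
      rcases mem_four_cases ht hu hc hv with e | e | e | e <;> rw [e]
      · simp
      · exact h4.1.eq
      · exact h4.2.eq
      · exact (h4.1.mul_left h4.2).eq
    rcases mem_four_cases ht hu hc hw with e | e | e | e
    · exact absurd e hw1
    · subst e
      refine ⟨haw', ?_⟩
      by_contra hua
      obtain ⟨d, hd1, hd⟩ := key w u hu hc huE a ha haw' hua
      exact (hno d hd1).1 hd
    · subst e
      refine ⟨?_, haw'⟩
      by_contra hta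
      obtain ⟨d, hd1, hd⟩ := key w t ht hc.symm htE a ha haw' hta
      exact (hno d hd1).2.1 hd
    · subst e
      by_cases hta : Commute t a
      · refine ⟨hta, ?_⟩
        have := hta.mul_left haw'
        rwa [← mul_assoc, involution_sq ht, one_mul] at this
      · obtain ⟨d, hd1, hd⟩ := key _ t ht ((Commute.refl t).mul_left hc.symm) htE a ha haw' hta
        exact absurd hd (hno d hd1).2.2
  intro a ha
  have hc' := (hgen ha).2
  exact ⟨mem_centralizer_iff.1 hc' t (subset_closure (by simp)),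
    mem_centralizer_iff.1 hc' u (subset_closure (by simp))⟩

variable {r : ℕ} [Fact r.Prime] {H : Subgroup G}

/-- Powers of products agree modulo `O(H)` when commutators lie there. -/
theorem mul_pow_mod {A : Subgroup G} (hA : A ≤ H)
    (hc : ∀ a ∈ A, ∀ b ∈ A, a * b * a⁻¹ * b⁻¹ ∈ oddOf H) {a b : G} (ha : a ∈ A) (hb : b ∈ A)
    (n : ℕ) : (a * b) ^ n * (a ^ n * b ^ n)⁻¹ ∈ oddOf H := by
  induction n with
  | zero => simp
  | succ n ih =>
    have h1 := conj_mem_oddOf (le_normalizer (hA (pow_mem ha n))) (hc _ (pow_mem hb n) a ha)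
    rw [show (a * b) ^ (n + 1) * (a ^ (n + 1) * b ^ (n + 1))⁻¹ =
      ((a * b) ^ n * (a ^ n * b ^ n)⁻¹) * (a ^ n * (b ^ n * a * (b ^ n)⁻¹ * a⁻¹) * (a ^ n)⁻¹) by
      rw [pow_succ (a * b), pow_succ a, pow_succ b]; group]
    exact mul_mem ih h1

theorem card_mul_le_of_lt {K L : Subgroup G} (hL : IsPGroup r L) (h : K < L) :
    r * Nat.card K ≤ Nat.card L := by
  obtain ⟨l, hl⟩ := IsPGroup.iff_card.1 hL
  obtain ⟨k, hk⟩ := IsPGroup.iff_card.1 (hL.to_le h.le)
  have hlt := CfsgLib.Transfer.card_lt_of_lt h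
  rw [hk, hl] at hlt ⊢
  rw [← pow_succ']
  exact Nat.pow_le_pow_right (Fact.out : r.Prime).pos
    ((Nat.pow_lt_pow_iff_right (Fact.out : r.Prime).one_lt).1 hlt)

/-- A fixed and an inverted element span a subgroup of rank two modulo the core. -/
theorem elabMod_pair {A : Subgroup G} (hAH : A ≤ H) (hAp : IsPGroup r A)
    (hc : ∀ a ∈ A, ∀ b ∈ A, a * b * a⁻¹ * b⁻¹ ∈ oddOf H) {a b x : G}
    (hAgen : A ≤ closure ({a, b} : Set G)) (haA : a ∈ A) (hbA : b ∈ A) (har : a ^ r ∈ oddOf H)
    (hbr : b ^ r ∈ oddOf H) (hbo : Odd (orderOf b)) (hxH : x ∈ normalizer (H : Set G))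
    (hxa : Commute x a) (hxb : x * b * x⁻¹ = b⁻¹) (ha : a ∉ oddOf H) (hb : b ∉ oddOf H) :
    ElabMod r H A ∧ RankTwo r H A := by
  have hpow : ∀ y ∈ A, y ^ r ∈ oddOf H := by
    intro y hy
    have hle : closure ({a, b} : Set G) ≤ A :=
      (closure_le A).2 (by simp [Set.insert_subset_iff, haA, hbA])
    induction hAgen hy using closure_induction with
    | mem z hz => rcases hz with rfl | rfl <;> assumption
    | one => simp
    | mul z w hz hw ihz ihw =>
      have h1 := mul_mem (mul_pow_mod hAH hc (hle hz) (hle hw) r) (mul_mem (ihz (hle hz)) (ihw (hle hw)))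
      rwa [inv_mul_cancel_right] at h1
    | inv z hz ih =>
      rw [inv_pow]; exact inv_mem (ih (inv_mem_iff.1 hy))
  refine ⟨⟨hAH, hAp, hc, hpow⟩, ?_⟩
  set L := closure (((A ⊓ oddOf H : Subgroup G) : Set G) ∪ {a}) with hLdef
  have hLA : L ≤ A := (closure_le A).2 (Set.union_subset (fun w hw => hw.1) (by simpa using haA))
  have hfix : ∀ w ∈ L, x * w * x⁻¹ * w⁻¹ ∈ oddOf H := by
    intro w hw
    induction hw using closure_induction with
    | mem z hz =>
      rcases hz with hz | rfl
      · exact mul_mem (conj_mem_oddOf hxH hz.2) (inv_mem hz.2)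
      · rw [conj_eq_of_commute hxa, mul_inv_cancel]; exact one_mem _
    | one => simp
    | mul z w hz hw ihz ihw =>
      rw [show x * (z * w) * x⁻¹ * (z * w)⁻¹ =
        (x * z * x⁻¹ * z⁻¹) * (z * (x * w * x⁻¹ * w⁻¹) * z⁻¹) by group]
      exact mul_mem ihz (conj_mem_oddOf (le_normalizer (hAH (hLA hz))) ihw)
    | inv z hz ih =>
      have h1 := conj_mem_oddOf (le_normalizer (hAH (inv_mem (hLA hz)))) (inv_mem ih)
      rwa [show z⁻¹ * (x * z * x⁻¹ * z⁻¹)⁻¹ * z⁻¹⁻¹ = x * z⁻¹ * x⁻¹ * z⁻¹⁻¹ by group] at h1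
  have h1 : (A ⊓ oddOf H : Subgroup G) < L := by
    refine lt_of_le_of_ne (fun w hw => subset_closure (Or.inl hw)) fun e => ha ?_
    have : a ∈ L := subset_closure (Or.inr rfl)
    rw [← e] at this
    exact this.2
  have h2 : L < A := by
    refine lt_of_le_of_ne hLA fun e => hb ?_
    have h3 := inv_mem (hfix b (e ▸ hbA))
    rw [hxb, ← mul_inv_rev, inv_inv, ← pow_two] at h3
    obtain ⟨m, hm⟩ := exists_pow_eq_self_of_coprime (n := 2) (x := b) (Nat.coprime_two_left.2 hbo)
    exact hm ▸ pow_mem h3 m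
  have e1 := card_mul_le_of_lt (hAp.to_le hLA) h1
  have e2 := card_mul_le_of_lt hAp h2
  rw [RankTwo, pow_two, mul_assoc]
  exact le_trans (Nat.mul_le_mul_left r e1) e2

omit [Finite G] [Fact r.Prime] in
theorem isPGroup_closure_pair {E : Subgroup G} (hE : IsPGroup r E) {a b : G} (ha : a ∈ E)
    (hb : b ∈ E) : IsPGroup r (closure ({a, b} : Set G)) :=
  hE.to_le ((closure_le E).2 (by simp [Set.insert_subset_iff, ha, hb]))

/-- An element inverted by a `2`-element of the inner part lies there and outside the core. -/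
theorem inverted_mem {w a : G} (hw : w ∈ inner r H) (h2 : orderOf w = 2) {E : Subgroup G}
    (hE : IsPGroup r E) (hr : r ≠ 2) (haE : a ∈ E) (haH : a ∈ H) (ha : w * a * w⁻¹ = a⁻¹) :
    a ∈ inner r H ∧ (a ∈ oddOf H → a = 1) := by
  have hao : Odd (orderOf a) := odd_orderOf_of_mem (Setting.odd_of_pGroup hr hE) haE
  obtain ⟨m, hm⟩ := exists_pow_eq_self_of_coprime (n := 2) (x := a) (Nat.coprime_two_left.2 hao)
  refine ⟨?_, fun haO => ?_⟩
  · have h1 : w * (a * w⁻¹ * a⁻¹) ∈ inner r H := mul_mem hw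
      ((mem_normalizer_iff.1 (normalizer_le_inner r H (le_normalizer haH)) _).1 (inv_mem hw))
    rw [← mul_assoc, ← mul_assoc, ha, ← mul_inv_rev, ← pow_two, inv_mem_iff] at h1
    exact hm ▸ pow_mem h1 m
  · have h1 := (mem_fixCore_of_inner hw (twoElt_of_involution h2)).2 a haO
    rw [ha, ← mul_inv_rev, ← pow_two] at h1
    exact eq_one_of_mem_thetaOf hE haE (hm ▸ pow_mem (inv_mem_iff.1 h1) m)

/-- An involution normalising `H` cannot fix one and invert the other of two elements inverted by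
an involution of the inner part. -/
theorem false_of_pair (hK : KFacts G r) (hr : r ≠ 2) (hH : H ≠ ⊤) (hnc : ¬ Constrained r H)
    {E : Subgroup G} (hE : IsPGroup r E) (hEH : E ≤ H) {w x a b : G} (hw : w ∈ inner r H)
    (hwo : orderOf w = 2) (hxN : x ∈ normalizer (H : Set G)) (hxo : orderOf x = 2)
    (ha1 : a ≠ 1) (ha : Piece x w E a) (hb1 : b ≠ 1) (hb : Piece (x * w) w E b)
    (hxw : Commute x w) : False := by
  have hI := innerLike hnc
  obtain ⟨haN, haO⟩ := inverted_mem hw hwo hE hr ha.1 (hEH ha.1) ha.2.2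
  obtain ⟨hbN, hbO⟩ := inverted_mem hw hwo hE hr hb.1 (hEH hb.1) hb.2.2
  have hxb : x * b * x⁻¹ = b⁻¹ := by
    have h := hb.mul_left.2.2
    rwa [mul_assoc x w w, involution_sq hwo, mul_one] at h
  -- pass to powers of order `r`
  have hord : ∀ c ∈ E, c ≠ 1 → ∃ k, orderOf (c ^ k) = r := by
    intro c hcE hc1
    obtain ⟨n, hn⟩ := IsPGroup.iff_orderOf.1 hE ⟨c, hcE⟩
    rw [Subgroup.orderOf_mk] at hn
    have hd : r ∣ orderOf c := by
      rcases Nat.eq_zero_or_pos n with rfl | hpos
      · exact absurd (orderOf_eq_one_iff.1 (by rwa [pow_zero] at hn)) hc1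
      · exact hn ▸ dvd_pow_self r hpos.ne'
    exact ⟨_, orderOf_pow_orderOf_div (orderOf_pos c).ne' hd⟩
  obtain ⟨i, hi⟩ := hord a ha.1 ha1
  obtain ⟨j, hj⟩ := hord b hb.1 hb1
  set A := closure ({a ^ i, b ^ j} : Set G) with hA
  have hAp := isPGroup_closure_pair hE (pow_mem ha.1 i) (pow_mem hb.1 j)
  have hAN : A ≤ inner r H :=
    (closure_le _).2 (by simp [Set.insert_subset_iff, pow_mem haN i, pow_mem hbN j])
  have hAcomm : ∀ p ∈ A, ∀ q ∈ A, p * q * p⁻¹ * q⁻¹ ∈ oddOf H :=
    hK.abel H _ A hH hI hAN hAp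
  have hO1 : ∀ {c : G} {k : ℕ}, orderOf (c ^ k) = r → c ^ k ≠ 1 := fun h e =>
    (Fact.out : r.Prime).ne_one (by rw [← h, e, orderOf_one])
  have hnot : a ^ i ∉ oddOf H := fun h =>
    hO1 hi ((inverted_mem hw hwo hE hr (pow_mem ha.1 i) (hEH (pow_mem ha.1 i)) (ha.pow i).2.2).2 h)
  have hnotb : b ^ j ∉ oddOf H := fun h =>
    hO1 hj ((inverted_mem hw hwo hE hr (pow_mem hb.1 j) (hEH (pow_mem hb.1 j)) (hb.pow j).2.2).2 h)
  obtain ⟨hel, hrk⟩ := elabMod_pair (hAN.trans (inner_le r H)) hAp hAcomm le_rfl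
    (subset_closure (by simp)) (subset_closure (by simp))
    (by rw [← hi, pow_orderOf_eq_one]; exact one_mem _)
    (by rw [← hj, pow_orderOf_eq_one]; exact one_mem _)
    (hj ▸ (Fact.out : r.Prime).odd_of_ne_two hr) hxN (ha.2.1.pow_right i)
    (by rw [← conj_pow, hxb, inv_pow]) hnot hnotb
  refine hnot (hK.free H _ A hH hI hel hAN hrk x hxo hxN ?_ _
    (subset_closure (by simp)) (ha.2.1.pow_right i).symm)
  refine mem_normalizer_of_conj fun c hcA => ?_
  induction hcA using closure_induction with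
  | mem z hz =>
    rcases hz with rfl | rfl
    · rw [conj_eq_of_commute (ha.2.1.pow_right i)]; exact subset_closure (by simp)
    · rw [← conj_pow, hxb, inv_pow]; exact inv_mem (subset_closure (by simp))
  | one => simp
  | mul p q _ _ ihp ihq =>
    rw [show x * (p * q) * x⁻¹ = (x * p * x⁻¹) * (x * q * x⁻¹) by group]
    exact mul_mem ihp ihq
  | inv p _ ihp => rw [← conj_inv]; exact inv_mem ihp

/-- A subgroup with a four-group having three pieces on an `r`-subgroup is constrained. -/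
theorem constrained_of_pieces (σ : Base G) (hK : KFacts G r) (hr : r ≠ 2) (hH : H ≠ ⊤)
    {E : Subgroup G} (hE : IsPGroup r E) (hEH : E ≤ H) {t u : G} (ht : orderOf t = 2)
    (hu : orderOf u = 2) (hne : t ≠ u) (hc : Commute t u) (htH : t ∈ H) (huH : u ∈ H)
    (h1 : ∃ a, a ≠ 1 ∧ Piece t u E a) (h2 : ∃ a, a ≠ 1 ∧ Piece u t E a)
    (h3 : ∃ a, a ≠ 1 ∧ Piece (t * u) t E a) : Constrained r H := by
  by_contra hnc
  have hI := innerLike hnc
  -- `w` in the inner part, `a` fixed by `x`, `b` inverted by `x`, both inverted by `w`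
  have key : ∀ w x a b : G, w ∈ inner r H → orderOf w = 2 → x ∈ H → orderOf x = 2 →
      a ≠ 1 → Piece x w E a → b ≠ 1 → Piece (x * w) w E b → Commute x w → False :=
    fun w x a b hw hwo hxH hxo ha1 ha hb1 hb hxw =>
      false_of_pair hK hr hH hnc hE hEH hw hwo (le_normalizer hxH) hxo ha1 ha hb1 hb hxw
  obtain ⟨a1, ha1, p1⟩ := h1
  obtain ⟨a2, ha2, p2⟩ := h2
  obtain ⟨a3, ha3, p3⟩ := h3
  have htu2 : orderOf (t * u) = 2 :=
    CfsgLib.Signalizer.orderOf_eq_two_of
      (fun e => hne ((mul_eq_one_iff_eq_inv.1 e).trans (involution_inv hu)))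
      (by rw [← pow_two, hc.mul_pow, pow_two, pow_two, involution_sq ht, involution_sq hu, mul_one])
  have hN : ∀ {x : G}, x ∈ H → x ∈ normalizer (inner r H : Set G) := fun hx =>
    normalizer_le_inner r H (le_normalizer hx)
  rcases σ.four_meets hI.even ht hu hne hc (hN htH) (hN huH) with hw | hw | hw
  · -- `w = t`, `x = u`
    refine key t u a2 a3 hw ht huH hu ha2 p2 ha3 ?_ hc.symm
    rwa [hc.symm.eq]
  · refine key u t a1 a3 hw hu htH ht ha1 p1 ha3 ?_ hc
    have h := p3.mul_left.2.2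
    rw [show t * u * t = u by
      rw [hc.eq, mul_assoc, involution_sq ht, mul_one]] at h
    exact ⟨p3.1, p3.2.1, h⟩
  · refine key (t * u) t a1 a2 hw htu2 htH ht ha1 p1.mul_left ha2 ?_ ((Commute.refl t).mul_right hc)
    rw [← mul_assoc, involution_sq ht, one_mul]
    exact p2.mul_right

end CfsgLib.GW.Sig
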