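import Cfsg.Agent.Lib.GW.Dihedral
import Cfsg.Agent.Lib.GW.OddPart
import Cfsg.Agent.Lib.PLocal.SLTwo.QdFree
import Cfsg.Agent.Lib.Core.SolvableStruct

/-!
# The signalizer case for dihedral Sylow 2-subgroups: setting and interface

`Base`: dihedral Sylow 2-subgroup, one class of involutions (no condition on fixed points of
four-groups).  For `H ≤ G`: `oddOf H` is `O(H)`, `thetaOf r H` is `O_{r'}(O(H))`, `fixCore r H`
consists of the elements acting trivially on `O(H) / thetaOf r H`, and `inner r H` is generated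
by `O(H)` and the elements of `2`-power order of `fixCore r H`.

`KFacts` collects what is used about proper subgroups with a known structure modulo the core;
all its statements are about an `InnerLike` normal subgroup, modulo `O(H)`.
-/

set_option autoImplicit false

namespace CfsgLib.GW.Sig

open Subgroup Cfsg DihedralGroup
open CfsgLib.Signalizer (involution_sq involution_inv involution_ne_one orderOf_conj)

universe u

variable {G : Type u} [Group G]

/-- Dihedral Sylow 2-subgroup and one class of involutions. -/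
structure Base (G : Type u) [Group G] where
  S : Sylow 2 G
  n : ℕ
  f : DihedralGroup (2 ^ n) →* G
  inj : Function.Injective f
  range : f.range = (S : Subgroup G)
  pos : 1 ≤ n
  one_class : ∀ a b : G, orderOf a = 2 → orderOf b = 2 → IsConj a b

/-- An element of `2`-power order. -/
def TwoElt (x : G) : Prop := ∃ k : ℕ, x ^ 2 ^ k = 1

/-- `O(H)` as a subgroup of `G`. -/
noncomputable def oddOf (H : Subgroup G) : Subgroup G := (oddCore ↥H).map H.subtype

/-- `O_{r'}(O(H))` as a subgroup of `G`. -/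
noncomputable def thetaOf (r : ℕ) (H : Subgroup G) : Subgroup G :=
  (pPrimeCore r ↥(oddOf H)).map (oddOf H).subtype

/-- A normal subgroup containing the core, of even order and generated by `2`-elements modulo it. -/
structure InnerLike (H N : Subgroup G) : Prop where
  le : N ≤ H
  normal : H ≤ normalizer (N : Set G)
  core_le : oddOf H ≤ N
  even : ¬ Odd (Nat.card N)
  gen : N ≤ oddOf H ⊔ closure {x | x ∈ N ∧ TwoElt x}

/-- An `r`-subgroup of `H` which is elementary abelian modulo `O(H)`. -/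
structure ElabMod (r : ℕ) (H A : Subgroup G) : Prop where
  le : A ≤ H
  isP : IsPGroup r A
  comm : ∀ a ∈ A, ∀ b ∈ A, a * b * a⁻¹ * b⁻¹ ∈ oddOf H
  pow : ∀ a ∈ A, a ^ r ∈ oddOf H

/-- `A` has rank at least two modulo `O(H)`. -/
def RankTwo (r : ℕ) (H A : Subgroup G) : Prop :=
  r ^ 2 * Nat.card (A ⊓ oddOf H : Subgroup G) ≤ Nat.card A

/-- The facts used about proper subgroups. -/
structure KFacts (G : Type u) [Group G] (r : ℕ) : Prop where
  /-- four-groups in `N`, or odd elements act trivially on `N` modulo the core -/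
  four : ∀ H N : Subgroup G, H ≠ ⊤ → InnerLike H N →
    (∃ x ∈ N, ∃ y ∈ N, orderOf x = 2 ∧ orderOf y = 2 ∧ x ≠ y ∧ Commute x y) ∨
      ∀ h ∈ H, Odd (orderOf h) → ∀ x ∈ N, h * x * h⁻¹ * x⁻¹ ∈ oddOf H
  /-- outer odd automorphisms form a cyclic group -/
  quot : ∀ H N A : Subgroup G, H ≠ ⊤ → InnerLike H N → ElabMod r H A →
    Nat.card A ≤ r * Nat.card (A ⊓ N : Subgroup G)
  /-- outer automorphisms commute -/
  comm : ∀ H N A : Subgroup G, H ≠ ⊤ → InnerLike H N → ElabMod r H A → RankTwo r H A →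
    ∀ x : G, orderOf x = 2 → x ∈ normalizer (H : Set G) → ∀ a ∈ A, a * x * a⁻¹ * x⁻¹ ∈ N
  /-- Sylow `r`-subgroups of `N` are abelian modulo the core -/
  abel : ∀ H N A : Subgroup G, H ≠ ⊤ → InnerLike H N → A ≤ N → IsPGroup r A →
    ∀ a ∈ A, ∀ b ∈ A, a * b * a⁻¹ * b⁻¹ ∈ oddOf H
  /-- exponent `r` subgroups fixed or inverted by an involution are abelian modulo the core -/
  expAbel : ∀ H F : Subgroup G, H ≠ ⊤ → F ≤ H → (∀ a ∈ F, a ^ r = 1) →
    ∀ x : G, orderOf x = 2 → x ∈ normalizer (H : Set G) →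
      ((∀ a ∈ F, Commute a x) ∨ F ≤ closure {a | a ∈ F ∧ x * a * x⁻¹ = a⁻¹}) →
      ∀ a ∈ F, ∀ b ∈ F, a * b * a⁻¹ * b⁻¹ ∈ oddOf H
  /-- involutions act freely on the non-cyclic elementary abelian subgroups of `N` -/
  free : ∀ H N A : Subgroup G, H ≠ ⊤ → InnerLike H N → ElabMod r H A → A ≤ N → RankTwo r H A →
    ∀ x : G, orderOf x = 2 → x ∈ normalizer (H : Set G) → x ∈ normalizer (A : Set G) →
      ∀ a ∈ A, Commute a x → a ∈ oddOf H
  /-- an outer element centralises a four-group -/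
  outer : ∀ H N A : Subgroup G, H ≠ ⊤ → InnerLike H N → ElabMod r H A → RankTwo r H A →
    ∀ a ∈ A, a ∉ N → ∃ x ∈ N, ∃ y ∈ N, orderOf x = 2 ∧ orderOf y = 2 ∧ x ≠ y ∧ Commute x y ∧
      x * a * x⁻¹ * a⁻¹ ∈ oddOf H ∧ y * a * y⁻¹ * a⁻¹ ∈ oddOf H
  /-- a non-cyclic inner part normal in a Sylow subgroup is everything -/
  bigInner : ∀ H N A : Subgroup G, H ≠ ⊤ → InnerLike H N → ElabMod r H A →
    r ^ 2 * Nat.card (A ⊓ oddOf H : Subgroup G) ≤ Nat.card (A ⊓ N : Subgroup G) →
    ∀ R : Sylow r H, A ≤ (R : Subgroup H).map H.subtype →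
      (R : Subgroup H).map H.subtype ≤ normalizer ((A ⊔ oddOf H : Subgroup G) : Set G) → A ≤ N
  /-- such a subgroup, invariant under the normaliser of a Sylow subgroup, is self-centralising -/
  bigSelf : ∀ H N A : Subgroup G, H ≠ ⊤ → InnerLike H N → ElabMod r H A → A ≤ N → RankTwo r H A →
    ∀ P : Sylow r N, A ≤ (P : Subgroup N).map N.subtype →
      N ⊓ normalizer ((P : Subgroup N).map N.subtype : Set G) ≤
        normalizer ((A ⊔ oddOf H : Subgroup G) : Set G) →
      ∀ x ∈ H, (∀ a ∈ A, x * a * x⁻¹ * a⁻¹ ∈ oddOf H) → x ∈ A ⊔ oddOf H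
  /-- the odd part of the centraliser of an element of such a subgroup is an `r`-group -/
  cent : ∀ H N A : Subgroup G, H ≠ ⊤ → InnerLike H N → ElabMod r H A → A ≤ N → RankTwo r H A →
    ∀ a ∈ A, a ∉ oddOf H → ∀ x ∈ N, Odd (orderOf x) → x * a * x⁻¹ * a⁻¹ ∈ oddOf H →
      ∃ k : ℕ, x ^ r ^ k ∈ oddOf H

end CfsgLib.GW.Sig
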